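import Cfsg.Agent.MK.GX.Nd
import Cfsg.Agent.MK.S.Congr
import Cfsg.Agent.ODD.QB.SU
import Cfsg.Agent.ODD.Cov.E6
import Cfsg.Agent.H69.OQ.InC
import Cfsg.Agent.GAL.Nrm.Dg
import Cfsg.Agent.S0283
import Cfsg.Agent.S2090

/-!
# MK: the row of `PSU_n(q)`, `q` odd (helper9)

`gd_uf`, `gd_psu`, **`row_psu`**.
-/

set_option autoImplicit false
set_option linter.unusedSectionVars false

namespace Cfsg.Agent.MK.GX

open Cfsg Matrix CoxeterSystem Cfsg.Agent.ChevalleyStructure.CoxeterGeom Cfsg.Agent.Tits.Roots Cfsg.Agent.Nodes.Reps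
  Cfsg.Agent.Nodes.BNOf Cfsg.Agent.Nodes.Bruhat Cfsg.Agent.KFacts.RgdDiag Cfsg.Agent.H310.OQ Cfsg.Agent.ODD.FA
  Cfsg.Agent.Nodes Cfsg.Agent.ODD.QB Cfsg.Agent.MK.G Cfsg.Agent.GAL.Nrm Cfsg.Agent.ODD
open Cfsg.Agent.TitsThree.Siegel Cfsg.Agent.TitsThree.WittFrame Cfsg.Agent.TitsThree.WittWeyl
  Cfsg.Agent.TitsThree.FrameCN Cfsg.Agent.LieClassical.HermBasic
open Cfsg.Agent.Nodes.WittRoot (Mono rg rg_eq PG_self PG_ne)
open Cfsg.Agent.Nodes.WittRGD (nn mono_nn rg_sr not_prop)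
open Cfsg.Agent.Nodes.TypeC (ng sg nx wt ee isCartan)
open Cfsg.Agent.H428.OQ (rho rho_inj)
open Cfsg.Agent.Phan (fixedField card_fixedField)
open Cfsg.Agent.H311.K547 (E2 gf)
open Cfsg.Agent.ODD.Cv (CE prj prU)

section uf

variable {F : Type} [Field F] [Fintype F] {V : Type} [AddCommGroup V] [Module F V] {H : HForm F V} {k : ℕ}
  {Fr : Frame H (Fin (k + 1))} {Y : Type} [Group Y] [Finite Y] {M : Model Fr Y} {L : Y →* (V ≃ₗ[F] V)} {q : ℕ}
  {Δ : Subgroup Fˣ} {p0 : Fr.Adm} (D : UF M L q Δ p0) (hε : H.ε = 1)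
  {W : Type} [Group W] [Finite W] {cs : CoxeterSystem (CoxeterMatrix.B (k + 1)) W} {p : ℕ} {nw : Fin (k + 1) → Y}
  (hn : ∀ i, L (nw i) = nn Fr p0 i) (R : RGD cs (isCartan (k + 1)) p (WittModel.T M) nw (WittModel.X M))

include D hε hn R

theorem card_last : Nat.card (zc (WittModel.X M (sr (Fin.last k)))) ≤ q := by
  obtain ⟨Φ, N⟩ := nd_last D hε hn R
  rw [← card_fixedField D.card]
  exact Nat.card_le_card_of_surjective (fun t => ⟨Φ (uu t), (N.up _).2 ⟨t, rfl⟩⟩) fun u =>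
    ((N.up _).1 u.2).imp fun _ e => Subtype.ext e.symm

omit hε hn R in
theorem card_short (i : Fin k) : q ^ 2 ≤ Nat.card (zc (WittModel.X M (sr i.castSucc))) := by
  have hne : ((i.castSucc, true) : Fin (k + 1) × Bool).1 ≠ ((i.succ, false) : Fin (k + 1) × Bool).1 :=
    (Fin.castSucc_lt_succ (i := i)).ne
  have h3 : ∀ g, g ∈ WittModel.X M (sr i.castSucc) ↔ ∃ t, L g = Fr.X _ _ t := fun g => by
    refine D.mem_map.trans ?_
    rw [rg_sr, nx_castSucc, PG_ne Fr hne]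
    rfl
  rw [← D.card, ← Nat.card_eq_fintype_card]
  refine Nat.card_le_card_of_injective (fun t => ⟨M.φ ⟨_, M.hX _ _ t⟩, (h3 _).2 ⟨t, D.eq _⟩, fun y hy => ?_⟩)
    fun s t e => ?_
  · obtain ⟨s, hs⟩ := (h3 y).1 hy
    refine D.inj ?_
    rw [map_mul, map_mul, hs, D.eq, ← Fr.X_add, ← Fr.X_add, add_comm s]
  · have h5 := congrArg (fun g => L g.1 (Fr.b (TitsThree.WittFrame.neg (i.succ, false)))) e
    simp only [D.eq, X_apply_neg Fr hne, add_right_inj] at h5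
    exact smul_left_injective F (WittRGD.b_ne_zero _) h5

variable {S : Type} [Group S] [Finite S] {f : Y →* S}
  (R' : RGD cs (isCartan (k + 1)) p ((WittModel.T M).map f) (fun i => f (nw i)) fun x => (WittModel.X M x).map f)

theorem perm_one (hk : f.ker ≤ Subgroup.center Y)
    (hnf : H69.OQ.NoFix cs (isCartan (k + 1)) (WittModel.T M) (WittModel.X M)) {γ : MulAut S}
    {σ : Equiv.Perm (Fin (k + 1))} (E : Diag ((WittModel.T M).map f) (fun x => (WittModel.X M x).map f) γ σ)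
    (hσ : ∀ i j, CoxeterMatrix.B (k + 1) (σ i) (σ j) = CoxeterMatrix.B (k + 1) i j) : σ = 1 := by
  rcases k with _ | _ | k
  · exact Equiv.ext fun _ => Subsingleton.elim (α := Fin 1) _ _
  swap
  · exact Equiv.ext (H694.fix_B (by omega) σ hσ)
  by_contra h1
  have h2 : σ (Fin.castSucc 0) = Fin.last 1 :=
    (by decide : ∀ σ : Equiv.Perm (Fin 2), σ ≠ 1 → σ (Fin.castSucc 0) = Fin.last 1) σ h1
  have h3 := card_zc_diag E (Fin.castSucc 0)
  rw [h2, card_zc_map hk hnf (isRoot_sr cs _ _), card_zc_map hk hnf (isRoot_sr cs _ _)] at h3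
  have h4 := (card_short D 0).trans (h3 ▸ card_last D hε hn R)
  have := two_le D.card
  nlinarith

theorem gd_uf (hp : p.Prime) (hp2 : p ≠ 2) (hf : Function.Surjective f) (hk : f.ker ≤ Subgroup.center Y)
    (hnf : H69.OQ.NoFix cs (isCartan (k + 1)) (WittModel.T M) (WittModel.X M))
    (hord : ∀ j : ℕ, 2 ^ j ∣ Nat.card Y → ∀ t, t * Δ.index = (q ^ 2 - 1) ^ (k + 1) →
      2 ^ j ∣ t * (q + 1) ^ (k + 1) * (k + 1).factorial)
    (hdg : AllDG S) (hs : IsSimpleGroup S ∧ ¬ IsMulCommutative S) :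
    ∃ β : Fin (k + 1) → Fin (k + 1) → ℤ, GD R' β ∧ Au R' β ⊤ := by
  have hG := GG_top (T := WittModel.T M) (WittModel.G1_eq_top M k.succ_pos cs)
  obtain ⟨Φ, N⟩ := nd_last D hε hn R
  choose β hβ using fun a : Fin (k + 1) => TypeC.exists_long cs (a, true)
  have h1 : ∀ σ : Equiv.Perm (Fin (k + 1)), ∃ w, ∀ a, rep cs (isCartan (k + 1)) w (β a) = β (σ a) := fun σ => by
    obtain ⟨w, hw, e⟩ := (D.ld hn R).exists_pw' σ
    refine ⟨w, fun a => TypeC.ee_injective ?_⟩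
    rw [H694.EB.homB_ee cs w (hβ a), homB_WJ cs hw, hβ, ← e]
    rfl
  have h2 : β (Fin.last k) = sr (Fin.last k) := TypeC.ee_injective ((hβ _).trans ee_last.symm)
  have h3 : ∀ a, ee (-β a) = wt (a, false) + wt (a, false) := fun a => by
    rw [TypeC.ee_neg, hβ, neg_add, ← TypeC.wt_ng]
    rfl
  have h4 : ∀ {a b : Fin (k + 1)} (s t : Bool) {x y : Fin (k + 1) → ℤ}, a ≠ b → ee x = wt (a, s) + wt (a, s) →
      ee y = wt (b, t) + wt (b, t) → zc (WittModel.X M x) ≤ Subgroup.centralizer (zc (WittModel.X M y)) := by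
    intro a b s t x y hab hx hy u hu v hv
    obtain ⟨r, hr, rfl⟩ := (mem_zc_long D hε hx).1 hu
    obtain ⟨r', -, rfl⟩ := (mem_zc_long D hε hy).1 hv
    refine D.inj ?_
    rw [map_mul, map_mul]
    exact ClsWitt.commute_ZL (a := (a, s)) (c := (b, t)) (Or.inr rfl) (fun h => hab (congrArg Prod.fst h).symm)
      (fun h => hab (congrArg Prod.fst h).symm) (by rw [PG_self]; exact ⟨r', D.eq _⟩) ⟨r, hr, D.eq _⟩
  have hN : ∀ a, ∃ Φ : SpecialLinearGroup (Fin 2) (fixedField D.card) →* Y, Nd R (β a) Φ := fun a => by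
    obtain ⟨w, hw⟩ := h1 (Equiv.swap (Fin.last k) a)
    obtain ⟨g, hg⟩ := exists_rp cs R.nsys w
    have h5 := N.conj hg
    rw [← h2, hw, Equiv.swap_apply_left] at h5
    exact ⟨_, h5⟩
  have ho : ∀ a b, a ≠ b → ∀ u ∈ LZ (WittModel.X M) (β a), ∀ v ∈ LZ (WittModel.X M) (β b), Commute u v :=
    fun a b hab u hu v hv => by
      have h5 : LZ (WittModel.X M) (β a) ≤ Subgroup.centralizer (LZ (WittModel.X M) (β b)) := sup_le
        (Subgroup.le_centralizer_iff.1 (sup_le (h4 _ _ hab.symm (hβ b) (hβ a)) (h4 _ _ hab.symm (h3 b) (hβ a))))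
        (Subgroup.le_centralizer_iff.1 (sup_le (h4 _ _ hab.symm (hβ b) (h3 a)) (h4 _ _ hab.symm (h3 b) (h3 a))))
      exact (h5 hu v hv).symm
  refine ⟨β, gd_map R R' hp hp2 hf hk hG (D.ld hn R).T_comm hnf (H69.OQ.twFaithful_C M cs D.amb
    (Ring.two_ne_zero (FA.two_ne_of_odd (D.card ▸ D.odd.pow))) R) hN ho ⟨default, fun w _ a => ?_⟩
    (odd_MM R hp hG (D.ld hn R).T_comm hnf hN ho (fun σ => (h1 σ).imp fun w hw a => Or.inl (hw a)) fun j hj => ?_)
    hdg hs ?_, au_one R' (fun a => (hN a).choose_spec.root) fun γ σ E => perm_one D hε hn R hk hnf E (E.matrix R')⟩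
  · have h5 := H694.EB.homB_ee cs w (hβ a)
    obtain ⟨⟨b, _ | _⟩, hx⟩ : ∃ x, H694.EB.homB cs w (a, true) = x := ⟨_, rfl⟩
    · exact ⟨b, Or.inr (TypeC.ee_injective (by rw [h5, hx, h3]))⟩
    · exact ⟨b, Or.inl (TypeC.ee_injective (by rw [h5, hx, hβ]))⟩
  · rw [card_fixedField, Fintype.card_fin]
    refine hord j hj _ ?_
    let π : (Fin (k + 1) → Fˣ) →* Fˣ := MonoidHom.mk' (fun d => ∏ i, d i) fun _ _ => Finset.prod_mul_distrib
    have h5 : (D.ld hn R).τ.range = Δ.comap π := Subgroup.ext fun d =>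
      ⟨fun ⟨t, e⟩ => e ▸ (D.ld hn R).τ_mem t, fun hd => (D.ld hn R).τ_surj hd⟩
    rw [← Subgroup.index_comap_of_surjective Δ (f := π) fun x =>
        ⟨Pi.mulSingle 0 x, Fintype.prod_pi_mulSingle' (0 : Fin (k + 1)) x⟩,
      Nat.card_congr (MonoidHom.ofInjective (D.ld hn R).τ_inj).toEquiv, h5, Subgroup.card_mul_index, Nat.card_fun,
      Nat.card_units, Nat.card_eq_fintype_card, D.card, Nat.card_eq_fintype_card, Fintype.card_fin]
  · rcases D.alt with ⟨-, d, hd⟩ | ⟨h5, -⟩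
    · obtain ⟨r, hr⟩ := hd.exists_w D.card 1
      refine Or.inr ⟨Fin.last k, h2 ▸ sr_nonneg _, fun h6 => ?_⟩
      obtain ⟨r', h7, h8⟩ := (mem_zc_long D hε (hβ _)).1 (h6 ((mem_long D (hβ _)).2 ⟨r, rfl⟩))
      rw [rho_inj M _ h8, h7, one_smul] at hr
      exact hd.ne_zero hr.symm
    · exact Or.inl (Fin.nontrivial_iff_two_le.2 (by omega))

end uf

open Cfsg.Agent.TitsThree.KSideU Cfsg.Agent.TitsThree.KSideUDesc Cfsg.Agent.H69.OQ Cfsg.Agent.TitsThree.SiegelGen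
  Cfsg.Agent.TitsThree.WBridge in
/-- **`PSU_N(q)`** -/
theorem gd_psu (hm : MainC) {F : Type} [Field F] [Fintype F] {q N : ℕ} (hF : Fintype.card F = q ^ 2) (hq : Odd q)
    (hN : 3 ≤ N) {Y : Type} [Group Y] [Finite Y] {f : Y →* PSU N F q} (hf : CE (ringChar F) f)
    {Γ : Subgroup (MulAut Y)} (s : Sit Y Γ) : Gd Y Γ := by
  have : Fact (ringChar F).Prime := ⟨CharP.char_is_prime F _⟩
  have : Finite (PSU N F q) := Finite.of_surjective _ hf.surj
  have h2 := FA.two_ne_of_odd (hF ▸ hq.pow)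
  have h3 := two_le hF
  have h32 : ¬ (N = 3 ∧ q = 2) := by obtain ⟨k, hk⟩ := hq; omega
  have hs : IsSimpleGroup (PSU N F q) ∧ ¬ IsMulCommutative (PSU N F q) := by
    have := S0283.result hF N hN h32
    refine ⟨this, fun h => ?_⟩
    have h4 : commutator (PSU N F q) = ⊤ := by
      have h5 := map_commutator_eq Y f
      rw [s.qs.1.commutator_eq_top, ← MonoidHom.range_eq_map, MonoidHom.range_eq_top.2 hf.surj] at h5
      exact h5.symm
    refine top_ne_bot (h4.symm.trans (eq_bot_iff.2 (Subgroup.commutator_le.2 fun a _ b _ => ?_)))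
    exact commutatorElement_eq_one_iff_mul_comm.2 (h.1.1 a b)
  have hc : E2 ((q + 1) * Nat.card (SU N F q)) (∏ i ∈ Finset.range N, gf q i) :=
    S0278.result hF N (by omega) ▸ E2.odd_mul hq.pow
  have hker : (prU N F q).ker ≤ Subgroup.center _ := (QuotientGroup.ker_mk' _).le
  have key : ∀ {k : ℕ} {W : WFrame (PU hF N) (k + 1)} {p0 : (toFrame W).Adm} {Δ : Subgroup Fˣ}
      (D : UF (H61.SUCross.modelSU hF hN W) (toLin F q N) q Δ p0),
      NoFix (CoxeterMatrix.B (k + 1)).toCoxeterSystem (isCartan (k + 1)) (WittModel.T (H61.SUCross.modelSU hF hN W))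
        (WittModel.X (H61.SUCross.modelSU hF hN W)) →
      (∀ j : ℕ, 2 ^ j ∣ Nat.card (SU N F q) → ∀ t, t * Δ.index = (q ^ 2 - 1) ^ (k + 1) →
        2 ^ j ∣ t * (q + 1) ^ (k + 1) * (k + 1).factorial) → Gd Y Γ := by
    intro k W p0 Δ D hnf hord
    have := TypeC.finite_W (CoxeterMatrix.B (k + 1)).toCoxeterSystem
    have R := WittAll.rgdC_model _ (WittAll.AmbT.of_amb D.amb (ringChar F)) D.c0
      (CoxeterMatrix.B (k + 1)).toCoxeterSystem
    have R' := RGDLib.rgd_map_of_ker_le_center R (prU N F q) hker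
    obtain ⟨β, h4, h5⟩ := gd_uf D rfl (fun _ => D.eq _) R R' Fact.out h2 (QuotientGroup.mk'_surjective _) hker hnf hord
      (dg_psu (hF ▸ hq.pow) hF hN) hs
    exact hm R' β h4 h5 (GA.comm_map (D.ld (fun _ => D.eq _) R).T_comm) (hnf.map R.tor _ hker) Y f hf Γ s
  obtain ⟨t, j, ht, h⟩ := exists_two_elt hF hq
  obtain ⟨k, hk⟩ : ∃ k, N = 2 * (k + 1) ∨ N = 2 * (k + 1) + 1 := ⟨N / 2 - 1, by omega⟩
  rcases hk with hk | hk
  · obtain ⟨W, hV⟩ := exists_wframe_even hF hk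
    obtain ⟨p0, hp0, hw0⟩ := WittU.exists_adm hF W
    have D := uf_even hF hq hN W hp0 hw0 hk hV
    refine key D (nofix_tt _ _ D.amb (by omega) ht h) fun j hj t ht => dvd_of_e2 (c := q + 1) (by omega) ?_ hj
    have h4 := Subgroup.card_mul_index ((powMonoidHom q : Fˣ →* Fˣ).eqLocus (MonoidHom.id Fˣ))
    rw [Nat.card_congr (α := (powMonoidHom q : Fˣ →* Fˣ).eqLocus (MonoidHom.id Fˣ)) (β := (fixedField hF)ˣ)
      ⟨fun x => Units.mk0 ⟨x.1, congrArg Units.val x.2⟩ fun h => x.1.ne_zero (congrArg Subtype.val h),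
        fun u => ⟨Units.map (fixedField hF).subtype.toMonoidHom u, Units.ext u.1.2⟩,
        fun _ => Subtype.ext (Units.ext rfl), fun _ => Units.ext (Subtype.ext rfl)⟩, Nat.card_units, card_fixedField,
      Nat.card_units, Nat.card_eq_fintype_card, hF, ← one_pow 2, Nat.sq_sub_sq, mul_comm (q + 1)] at h4
    rw [Nat.eq_of_mul_eq_mul_left (by omega) h4] at ht
    rw [← mul_assoc, ← mul_assoc, mul_comm (q + 1) t, ht]
    exact hc.trans (hk ▸ (e2_su h3 hq (k + 1)).1)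
  · obtain ⟨W, d, hd, hV⟩ := exists_wframe_odd hF hk
    obtain ⟨p0, hp0, hw0⟩ := WittU.exists_adm hF W
    have D := uf_odd hF hq hN W hp0 hw0 hd hV
    refine key D ?_ fun j hj t ht => dvd_of_e2 (c := q + 1) (by omega) ?_ hj
    · rcases k with _ | k
      · exact nofix_su3 hF hq hN W hd hV _
      · exact nofix_tt _ _ D.amb (by omega) ht h
    · rw [Subgroup.index_top, mul_one] at ht
      rw [ht]
      exact hc.trans (hk ▸ (e2_su h3 hq (k + 1)).2)

theorem ce_of_cop {K : Fam} {X S : Type} [Group X] [Finite X] [Group S] (c : Cov K X)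
    (e : X ⧸ Subgroup.center X ≃* S) {p : ℕ} (h : (Nat.card (Subgroup.center X)).Coprime p) : CE p (prj e) :=
  ⟨e.surjective.comp (QuotientGroup.mk'_surjective _), (Cv.ker_prj e).le, by rwa [Cv.ker_prj],
    by rw [Cv.ker_prj]; exact c.odd⟩

/-- the cyclic odd covers of `U₄(3)` -/
theorem center_u43 {K : Fam} {X : Type} [Group X] [Finite X] (c : Cov K X) (hc : IsCyclic (Subgroup.center X))
    {F : Type} [Field F] [Fintype F] (hF : Fintype.card F = 9) (e : X ⧸ Subgroup.center X ≃* PSU 4 F 3) :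
    Nat.card (Subgroup.center X) ∣ 3 := by
  obtain ⟨g, hg⟩ := H95.StemCover.exists_surj_ker (S2090.result hF) (Cv.perfect c) (prj e)
    (e.surjective.comp (QuotientGroup.mk'_surjective _)) (Cv.ker_prj e).le
  rw [← Cv.ker_prj e] at hc ⊢
  have h1 : Nat.card (prj e).ker ∣ 2 ^ 2 * 3 := by
    rw [← hc.exponent_eq_card]
    refine Monoid.exponent_dvd_of_forall_pow_eq_one fun x => ?_
    obtain ⟨y, rfl⟩ := hg x
    rw [← map_pow, (by decide : ∀ y : Multiplicative (ZMod 4 × ZMod 3 × ZMod 3), y ^ (2 ^ 2 * 3) = 1) y, map_one]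
  refine (Nat.Coprime.pow_right 2 (Nat.coprime_two_right.2 ?_)).dvd_of_dvd_mul_left h1
  rw [Cv.ker_prj]
  exact c.odd

/-- **the row of `PSU_n(q)`, `q` odd**; the triple covers of `U₄(3)` are a hypothesis -/
theorem row_psu (hm : MainC) (hs : StepSm)
    (h3 : ∀ (F : Type) [Field F] [Fintype F], Fintype.card F = 9 → S.SmC (PSU 4 F 3)) : Row PsuO := by
  intro X _ _ c Γ s
  obtain ⟨F, _, _, n, q, h0, hF, hn, ⟨e⟩⟩ := c.fam
  have hq := Cv.odd_q h0 hF
  by_cases h9 : n = 4 ∧ q = 3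
  · obtain ⟨rfl, rfl⟩ := h9
    rcases (Nat.dvd_prime Nat.prime_three).1 (center_u43 c s.cyc hF e) with h | h
    · exact gd_psu hm hF hq hn (ce_of_cop c e (h ▸ Nat.coprime_one_left _)) s
    · exact S.gd_of_card hs s e h (h3 F hF)
  · refine gd_psu hm hF hq hn (ce_of_cop c e ?_) s
    have h1 := Cv.card_center_dvd c ((Cv.mb_psu_odd hq hF hn h9).congr e)
    rw [Cv.card_ker_prU hF hn] at h1
    have hp : (ringChar F).Prime := CharP.char_is_prime F _
    obtain ⟨m, -, hm⟩ := FiniteField.card F (ringChar F)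
    have h2 : ringChar F ∣ q := hp.dvd_of_dvd_pow (hF ▸ hm ▸ dvd_pow_self _ m.pos.ne')
    exact ((Nat.coprime_self_add_left.2 (Nat.coprime_one_left q)).coprime_dvd_right h2).coprime_dvd_left
      (h1.trans (Nat.gcd_dvd_right _ _))

end Cfsg.Agent.MK.GX
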