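import Cfsg.Agent.MK.GX.Root
import Cfsg.Agent.H491.Sd.FrInst

/-!
# MK, exceptional rows: the combinatorics of the frames (helper9)

`cmb_G2`, `cmb_F4`, `cmb_E6`, `cmb_E7`, `cmb_E8`, `cmb_tw`, `cmb_d4`.
-/

set_option autoImplicit false
set_option linter.unusedSectionVars false
set_option maxRecDepth 100000

namespace Cfsg.Agent.MK.GX

open CoxeterSystem Cfsg Cfsg.Lie Cfsg.Agent.ChevalleyStructure Cfsg.Agent.ChevalleyStructure.CoxeterGeom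
  Cfsg.Agent.Tits.Roots Cfsg.Agent.Nodes.Reps Cfsg.Agent.Nodes.RGDChev Cfsg.Agent.ClosedExc.WFr
  Cfsg.Agent.ChevalleyStructure.CoxeterGeomTypes Cfsg.Agent.Nodes Cfsg.Agent.ClosedExc.Families
  Cfsg.Agent.H775.Sd.ChevElem

/-- the numerical conditions -/
abbrev Chk {l k : ℕ} (A : Fin l → Fin l → ℤ) (β : Fin k → Fin l → ℤ) (e : Fin l → ℤ) (m : ℤ) (u : Fin k → ℤ)
    (cv : Fin k → Fin l → ℤ) (N : ℕ) (v : ℕ → Fin l → ℤ) : Prop :=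
  (∀ i j, e i * A i j = e j * A j i) ∧ m ≠ 0 ∧ (∀ a, Odd (u a)) ∧
    (∀ a, ∑ i, e i * β a i * ∑ j, A i j * β a j = m * u a) ∧
    (∀ a j, cv a j * (m * u a) = 2 * (e j * ∑ i, A j i * β a i)) ∧ (∀ a b, a ≠ b → ∑ j, cv b j * β a j = 0) ∧
    ∀ r < N, (∃ a, Odd (∑ j, cv a j * v r j)) ∨ ∃ a, (∀ j, v r j = β a j) ∨ ∀ j, v r j = -β a j

theorem cmb_chk {l k : ℕ} {W : Type} [Group W] [Finite W] {M : CoxeterMatrix (Fin l)} {cs : CoxeterSystem M W}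
    {A : Fin l → Fin l → ℤ} {h : IsCartan M A} {β : Fin k → Fin l → ℤ} (hr : ∀ a, IsRoot cs h (β a)) {N : ℕ}
    {v : ℕ → Fin l → ℤ} (hv : ∀ x, IsRoot cs h x ↔ ∃ r < N, v r = x) (e : Fin l → ℤ) (m : ℤ) (u : Fin k → ℤ)
    (cv : List (List ℤ)) (c : Chk A β e m u (fun a => toV l (cv.getD a [])) N v) : Cmb cs h β := by
  obtain ⟨c1, c2, c3, c4, c5, c6, c7⟩ := c
  refine cmb_of c1 hr c2 c3 c4 c5 c6 fun x hx ho => ?_
  obtain ⟨r, h1, rfl⟩ := (hv x).1 hx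
  refine (c7 r h1).resolve_right ?_
  rintro ⟨a, h2 | h2⟩
  · exact (ho a).1 (funext h2)
  · exact (ho a).2 (funext h2)

variable {W : Type} [Group W] [Finite W]

/-- the frame of a certificate -/
abbrev βc (l k : ℕ) (c : Cert) : Fin k → Fin l → ℤ := fun a => toV l (c.T.getD a [])

theorem cmb_G2 (cs : CoxeterSystem CoxeterMatrix.G₂ W) :
    Cmb cs isType_G2.isCartan ![vec chevG2 2 7, vec chevG2 2 11] :=
  cmb_chk (Fin.forall_fin_two.2 ⟨isRoot_vec isType_G2 cs (by decide +kernel), isRoot_vec isType_G2 cs (by decide +kernel)⟩)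
    (isRoot_iff isType_G2 cs) ![1, 3] 2 ![1, 3] [[2, -3], [0, 1]] (by decide +kernel)

theorem cmb_F4 (cs : CoxeterSystem CoxeterMatrix.F₄ W) : Cmb cs isType_F4.isCartan (βc 4 4 cF4) :=
  cmb_chk (fun a => (wframe' cs _ tabF4 okF4).1 a a.2) (isRoot_iff isType_F4 cs) ![1, 1, 2, 2] 4 (fun _ => 1)
    [[0, 0, -1, 2], [-1, 0, 1, 0], [1, -1, 1, 0], [0, 1, -1, 0]] (by decide +kernel)

theorem cmb_E6 (cs : CoxeterSystem CoxeterMatrix.E₆ W) : Cmb cs isType_E6.isCartan (βc 6 4 cE6) :=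
  cmb_chk (fun a => (wframe' cs _ tabE6 okE6).1 a a.2) (isRoot_iff isType_E6 cs) (fun _ => 1) 2 (fun _ => 1)
    [[0, 0, 0, 0, -1, 2], [0, -1, -1, 2, -1, 0], [2, 0, -1, 0, 0, 0], [0, 1, 0, 0, 0, 0]] (by decide +kernel)

theorem cmb_E7 (cs : CoxeterSystem CoxeterMatrix.E₇ W) : Cmb cs isType_E7.isCartan (βc 7 7 cE7) :=
  cmb_chk (fun a => (wframe' cs _ tabE7 okE7).1 a a.2) (isRoot_iff isType_E7 cs) (fun _ => 1) 2 (fun _ => 1)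
    [[0, 0, 0, 0, 0, -1, 2], [0, 0, 0, -1, 2, -1, 0], [-1, 0, 2, -1, 0, 0, 0], [0, 2, 0, -1, 0, 0, 0],
      [-1, 0, 0, 1, 0, -1, 0], [-1, 0, 0, 0, 0, 1, 0], [1, 0, 0, 0, 0, 0, 0]] (by decide +kernel)

theorem cmb_E8 (cs : CoxeterSystem CoxeterMatrix.E₈ W) : Cmb cs isType_E8.isCartan (βc 8 8 cE8) :=
  cmb_chk (fun a => (wframe' cs _ tabE8 okE8).1 a a.2) (isRoot_iff isType_E8 cs) (fun _ => 1) 2 (fun _ => 1)
    [[0, 0, 0, 0, 0, 0, -1, 2], [0, 0, 0, 0, -1, 2, -1, 0], [0, -1, -1, 2, -1, 0, 0, 0], [2, 0, -1, 0, 0, 0, 0, 0],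
      [0, 1, 0, 0, 0, 0, -1, 0], [0, 1, 0, 0, -1, 0, 1, 0], [0, 0, -1, 0, 1, 0, 0, 0], [0, -1, 1, 0, 0, 0, 0, 0]]
    (by decide +kernel)

theorem cmb_tw (cs : CoxeterSystem CoxeterMatrix.F₄ W) : Cmb cs RGDTwE6.isCartan (βc 4 4 cTwE6) :=
  cmb_chk (fun a => (wframe' cs _ tabTwE6 okTwE6).1 a a.2)
    (RGDTwE6.foldData.isRoot_iff RGDTwE6.hp.checked fun i _ hr => RGDFold.wp_lt RGDTwE6.hp (RGDTwE6.J i) hr)
    ![2, 2, 1, 1] 4 (fun _ => 1) [[-1, 2, -1, 0], [-1, 0, 1, -1], [-1, 0, 0, 1], [1, 0, 0, 0]] (by decide +kernel)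

theorem rep_d4 (cs : CoxeterSystem CoxeterMatrix.G₂ W) :
    rep cs RGDTwD4.isCartan (cs.simple 1 * cs.simple 0) (sr 1) = ![1, 2] := by
  rw [rep_mul_apply, rep_simple_eq, rep_simple_eq]
  decide +kernel

theorem rep_G2 (cs : CoxeterSystem CoxeterMatrix.G₂ W) :
    rep cs isType_G2.isCartan (cs.simple 1 * cs.simple 0) (sr 1) = vec chevG2 2 11 := by
  rw [rep_mul_apply, rep_simple_eq, rep_simple_eq]
  decide +kernel

theorem cmb_d4 (cs : CoxeterSystem CoxeterMatrix.G₂ W) : Cmb cs RGDTwD4.isCartan ![sr 0, ![1, 2]] :=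
  cmb_chk (Fin.forall_fin_two.2 ⟨isRoot_sr cs _ 0, _, 1, (rep_d4 cs).symm⟩)
    (RGDTwD4.foldData.isRoot_iff RGDTwD4.hp.checked fun i _ hr => RGDFold.wp_lt RGDTwD4.hp (RGDTwD4.J i) hr)
    ![3, 1] 2 ![3, 1] [[2, -1], [0, 1]] (by decide +kernel)

end Cfsg.Agent.MK.GX
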