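import Cfsg.Agent.MK.GX.Fr
import Cfsg.Agent.MK.GX.Cmb
import Cfsg.Agent.MK.S.Congr
import Cfsg.Agent.H951.K547.FrExc
import Cfsg.Agent.GAL.Nrm.Dg
import Cfsg.Agent.ODD.Cov.E6
import Cfsg.Agent.H310.OQ.TwD4
import Cfsg.Agent.S1055
import Cfsg.Agent.S1071

/-!
# MK: the rows `g2 f4 e6 e7 e8 tw d4`, `q` odd, from the generic theorem (helper9)

`Cvr p S`; `cvr_G2`, ..., `cvr_d4`; `row_g2`, `row_f4`, `row_e6`, `row_e7`, `row_e8`, `row_tw`, `row_d4`.
-/

set_option autoImplicit false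
set_option linter.unusedSectionVars false
set_option maxRecDepth 100000

namespace Cfsg.Agent.MK.GX

open CoxeterSystem Cfsg Cfsg.Lie Cfsg.Agent.ChevalleyStructure Cfsg.Agent.ChevalleyStructure.CoxeterGeom
  Cfsg.Agent.ChevalleyStructure.Elts Cfsg.Agent.Tits.Roots Cfsg.Agent.Nodes.Reps Cfsg.Agent.Nodes.BNOf
  Cfsg.Agent.Nodes.Bruhat Cfsg.Agent.Nodes.RGDChev Cfsg.Agent.ClosedExc Cfsg.Agent.ClosedExc.Frame
  Cfsg.Agent.ClosedExc.WFr Cfsg.Agent.ClosedExc.Chev Cfsg.Agent.ChevalleyStructure.CoxeterGeomTypes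
  Cfsg.Agent.Nodes Cfsg.Agent.ClosedExc.Families Cfsg.Agent.KFacts.RgdAut Cfsg.Agent.KFacts.RgdDiag
  Cfsg.Agent.H775.Sd.ChevElem Cfsg.Agent.H491.Sd.FrInst Cfsg.Agent.MK.G Cfsg.Agent.GAL.Nrm Cfsg.Agent.ODD
open Cfsg.Agent.H491.Sd (MF PM)
open Cfsg.Agent.ODD.Cv (CE prj MB)

/-- all central extensions of `S` of order prime to `2 p` are good -/
def Cvr (p : ℕ) (S : Type) [Group S] : Prop :=
  ∀ (Y : Type) [Group Y] [Finite Y] (f : Y →* S), CE p f → ∀ Γ : Subgroup (MulAut Y), Sit Y Γ → Gd Y Γ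

theorem ce_bot {K : Fam} {X S : Type} [Group X] [Finite X] [Group S] [Finite S] (c : Cov K X)
    (e : X ⧸ Subgroup.center X ≃* S) {p : ℕ} (hp : p.Prime) (hZ : Subgroup.center X = ⊥) : CE p (prj e) :=
  (Cv.ce_of c e hp (m := 1) (by rw [hZ, Subgroup.card_bot]; exact one_dvd _) fun _ => by decide).1

theorem frame_two {W Y : Type} [Group W] [Group Y] {M : CoxeterMatrix (Fin 2)} {cs : CoxeterSystem M W}
    {A : Fin 2 → Fin 2 → ℤ} {h : IsCartan M A} {X : (Fin 2 → ℤ) → Subgroup Y} {x y : Fin 2 → ℤ}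
    (hr : ∀ a, IsRoot cs h (![x, y] a)) (hlc : LC X x y) : FrameData cs h X ![x, y] ⊥ := by
  refine ⟨hr, fun a b hab => ?_, fun w hw a => ⟨a, Or.inl ?_⟩, fun w hw _ => Subgroup.mem_bot.1 hw⟩
  · fin_cases a <;> fin_cases b
    · exact absurd rfl hab
    · exact hlc
    · exact fun x hx y hy => (hlc y hy x hx).symm
    · exact absurd rfl hab
  · rw [Subgroup.mem_bot.1 hw, map_one, Module.End.one_apply]

section chev

variable {D : ChevalleyDatum} {l : ℕ} {M : CoxeterMatrix (Fin l)} (hp : IsType D l M) (K : Type) [Field K]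
  [Fintype K] (p : ℕ) [CharP K p]

include hp in
theorem ab_chev : Ab (XX D l K) := by
  intro i a ha b hb
  rw [Subgroup.mem_subgroupOf, XV_sr hp, mem_rootSubgroup_iff hp.inList] at ha hb
  obtain ⟨s, hs⟩ := ha
  obtain ⟨t, ht⟩ := hb
  apply Subtype.ext
  rw [Subgroup.coe_mul, Subgroup.coe_mul, hs, ht, xG_add, xG_add, add_comm]

/-- **The Chevalley groups with a frame.** -/
theorem cvr_chev (hm : MainC) (hK : Odd (Fintype.card K)) (hA : ∀ j, ∃ i, ¬ Even (cartanOf D l i j))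
    (hsim : IsSimpleGroup ↥(D.group K) ∧ ¬ IsMulCommutative ↥(D.group K)) (hdg : AllDG ↥(D.group K))
    [Fact p.Prime] [Finite M.Group] {k s : ℕ} [Nontrivial (Fin k)] {β : Fin k → Fin l → ℤ} {P : Subgroup M.Group}
    (C : Cmb M.toCoxeterSystem hp.isCartan β) (F : FrameData M.toCoxeterSystem hp.isCartan (XX D l K) β P)
    (hP : Nat.card P = 2 ^ s)
    (hord : ∀ m : ℕ, 2 ^ m ∣ Nat.card ↥(D.group K) →
      2 ^ m ∣ Nat.card ↥(D.diagonalSubgroup K) * 2 ^ s * (Fintype.card K + 1) ^ k)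
    (hau : ∀ S : H684.OQ.In p M.toCoxeterSystem hp.isCartan (TG D K) (fun i => ⟨nn hp K i, nn_mem_group hp i⟩)
      (XX D l K), Au S.rgd β ⊤) : Cvr p ↥(D.group K) := by
  have hpp : p.Prime := Fact.out
  have hp2 : p ≠ 2 := by
    rintro rfl
    exact two_ne K hK CharTwo.two_eq_zero
  have S := H310.OQ.in_of_sq (rgd (K := K) hp M.toCoxeterSystem p) hpp hp2 (G1_eq_top hp _) (torus_comm hp K · · · ·)
    (H310.OQ.sq_group hp _) hA (H310.OQ.node_group hp)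
  have hT : Nat.card (TG D K) = Nat.card ↥(D.diagonalSubgroup K) :=
    Nat.card_congr (Subgroup.subgroupOfEquivOfLe (diagonal_le_group hp.inList K)).toEquiv
  refine hm S.rgd β (gd_frame S hpp hp2 (ab_chev hp K) C F ?_ hdg hsim) (hau S) S.comm S.nofix
  refine H491.Sd.odd_index S.rgd F (G1_eq_top hp _) (isSL hp K hK) fun m hm => ?_
  rw [hT, hP, Finset.prod_congr rfl fun a _ => by rw [card_XX hp K _ (F.root a)], Finset.prod_const,
    Finset.card_univ, Fintype.card_fin]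
  exact hord m hm

theorem frame_cert {W : Type} [Group W] (cs : CoxeterSystem M W) {k N : ℕ} {c : Cert} (hA : IsTab (cartanOf D l) c.AL)
    (hc : Ok l k N c) {R : List (List ℤ × ℕ)}
    (hO : ∀ a < k, ∀ b < k, a ≠ b → orthL D l R (c.T.getD a []) (c.T.getD b []) = true) :
    FrameData cs hp.isCartan (XX D l K) (βc l k c) (Subgroup.closure (Gm cs c)) := by
  obtain ⟨f1, f2, f3, -⟩ := wframe' cs hp.isCartan hA hc
  exact ⟨fun a => f1 a a.2, fun a b hab => lc_of_orth hp K (orth_of (hO a a.2 b b.2 fun e => hab (Fin.ext e))), f2, f3⟩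

end chev

section rows

variable (hm : MainC) (K : Type) [Field K] [Fintype K] (hK : Odd (Fintype.card K)) (p : ℕ) [CharP K p]

include hm hK

theorem cvr_G2 : Cvr p ↥(chevG2.group K) := by
  have : Fact p.Prime := ⟨CharP.char_is_prime K p⟩
  have : Finite CoxeterMatrix.G₂.Group := finite_W isType_G2 CoxeterMatrix.G₂.toCoxeterSystem
  have hT := S1035.result (F := K) rfl (chevG2, 1) (by simp)
  rw [one_mul] at hT
  have h1 : ∃ a : K, a ≠ 0 ∧ a ≠ 1 := ⟨-1, neg_ne_zero.2 one_ne_zero, fun h => two_ne K hK (by linear_combination -h)⟩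
  have C := cmb_G2 CoxeterMatrix.G₂.toCoxeterSystem
  exact cvr_chev isType_G2 K p hm hK (by decide +kernel) (S1055.result h1) (dg_G2 hK) (s := 0) C
    (frame_two C.root (lc_of_orth isType_G2 K ⟨7, 11, by decide +kernel, rfl, rfl⟩)) Subgroup.card_bot
    (Orders.ord_G2 hK (three_le hK) (S1059.result (F := K) rfl) hT)
    fun S => au_G2 S.rgd (by decide +kernel) (rep_G2 _).symm

theorem cvr_F4 : Cvr p ↥(chevF4.group K) := by
  have : Fact p.Prime := ⟨CharP.char_is_prime K p⟩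
  have : Finite CoxeterMatrix.F₄.Group := finite_W isType_F4 CoxeterMatrix.F₄.toCoxeterSystem
  have hT := S1035.result (F := K) rfl (chevF4, 1) (by simp)
  rw [one_mul] at hT
  have C := cmb_F4 CoxeterMatrix.F₄.toCoxeterSystem
  refine cvr_chev isType_F4 K p hm hK (by decide +kernel) (S1054.result chevF4 (by simp)) (dg_F4 hK) (s := 3) C
    (frame_cert isType_F4 K _ tabF4 okF4 orth1F4) (wframe' _ isType_F4.isCartan tabF4 okF4).2.2.2
    (Orders.ord_F4 hK (three_le hK) (S1062.result (F := K) rfl) hT) fun S => au_pm S C.root fun γ σ hγ => ?_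
  rcases H951.K547.sym_F4 σ (hγ.matrix S.rgd) with rfl | rfl
  · exact pm_one S.rgd hγ
  · exact (H951.K547.not_flip_F4 K (two_ne K hK) hγ).elim

theorem cvr_E6 : Cvr p ↥(chevE6.group K) := by
  have : Fact p.Prime := ⟨CharP.char_is_prime K p⟩
  have : Finite CoxeterMatrix.E₆.Group := finite_W isType_E6 CoxeterMatrix.E₆.toCoxeterSystem
  have C := cmb_E6 CoxeterMatrix.E₆.toCoxeterSystem
  refine cvr_chev isType_E6 K p hm hK (by decide +kernel) (S1054.result chevE6 (by simp)) (dg_E6 hK) (s := 3) C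
    (frame_cert isType_E6 K _ tabE6 okE6 orth1E6) (wframe' _ isType_E6.isCartan tabE6 okE6).2.2.2
    (Orders.ord_E6 hK (three_le hK) (Nat.gcd_pos_of_pos_left _ (by norm_num)).ne' (S1063.result (F := K) rfl)
      (S1035.result (F := K) rfl (chevE6, Nat.gcd 3 (Fintype.card K - 1)) (by simp)))
    fun S => au_pm S C.root fun γ σ hγ => ?_
  obtain ⟨m, -, h1⟩ := H491.Sd.FrE6.pm_of_diag K CoxeterMatrix.E₆.toCoxeterSystem p hγ
  exact ⟨m, h1⟩

theorem cvr_E7 : Cvr p ↥(chevE7.group K) := by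
  have : Fact p.Prime := ⟨CharP.char_is_prime K p⟩
  have : Finite CoxeterMatrix.E₇.Group := finite_W isType_E7 CoxeterMatrix.E₇.toCoxeterSystem
  have C := cmb_E7 CoxeterMatrix.E₇.toCoxeterSystem
  refine cvr_chev isType_E7 K p hm hK (by decide +kernel) (S1054.result chevE7 (by simp)) (dg_E7 hK) (s := 3) C
    (frame_cert isType_E7 K _ tabE7 okE7 orth1E7) (wframe' _ isType_E7.isCartan tabE7 okE7).2.2.2
    (Orders.ord_E7 hK (three_le hK) (Nat.gcd_pos_of_pos_left _ (by norm_num)).ne' (S1064.result (F := K) rfl)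
      (S1035.result (F := K) rfl (chevE7, Nat.gcd 2 (Fintype.card K - 1)) (by simp)))
    fun S => au_pm S C.root fun γ σ hγ => ?_
  obtain rfl := H951.K547.sym_E7 σ (hγ.matrix S.rgd)
  exact pm_one S.rgd hγ

theorem cvr_E8 : Cvr p ↥(chevE8.group K) := by
  have : Fact p.Prime := ⟨CharP.char_is_prime K p⟩
  have : Finite CoxeterMatrix.E₈.Group := finite_W isType_E8 CoxeterMatrix.E₈.toCoxeterSystem
  have hT := S1035.result (F := K) rfl (chevE8, 1) (by simp)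
  rw [one_mul] at hT
  have C := cmb_E8 CoxeterMatrix.E₈.toCoxeterSystem
  refine cvr_chev isType_E8 K p hm hK (by decide +kernel) (S1054.result chevE8 (by simp)) (dg_E8 hK) (s := 6) C
    (frame_cert isType_E8 K _ tabE8 okE8 orth1E8) (wframe' _ isType_E8.isCartan tabE8 okE8).2.2.2
    (Orders.ord_E8 hK (three_le hK) (S1065.result (F := K) rfl) hT) fun S => au_pm S C.root fun γ σ hγ => ?_
  obtain rfl := H951.K547.sym_E8 σ (hγ.matrix S.rgd)
  exact pm_one S.rgd hγ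

omit hm hK in
theorem ab_fold {m l : ℕ} {D : ChevalleyDatum} {M' : CoxeterMatrix (Fin l)} {hp : IsType D l M'}
    {J : Fin m → List (Fin l)} {σ : GL D.Idx K →* GL D.Idx K} {G : Subgroup (GL D.Idx K)}
    (hN : ∀ i, H310.OQ.NodeOK hp K J σ G i) : Ab fun z => (RGDFold.R D hp K J σ z).subgroupOf G := by
  intro i a ha b hb
  obtain ⟨k, _, _, Φ, -, -, -, h1, -⟩ := hN i
  obtain ⟨s, hs⟩ := (h1 _).1 ha
  obtain ⟨t, ht⟩ := (h1 _).1 hb
  apply Subtype.ext
  change (a : GL D.Idx K) = _ at hs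
  change (b : GL D.Idx K) = _ at ht
  rw [Subgroup.coe_mul, Subgroup.coe_mul, hs, ht, ← map_mul, ← map_mul, H310.OQ.uu_mul, H310.OQ.uu_mul, add_comm]

theorem cvr_tw {q : ℕ} (hq : IsPrimePow q) (hc : Fintype.card K = q ^ 2) : Cvr p ↥(twistedE6 K q) := by
  obtain ⟨φ, hφ, hqq⟩ := TwE6Basic.exists_frob hq hc
  have hpp : p.Prime := CharP.char_is_prime K p
  have : Fact p.Prime := ⟨hpp⟩
  have : Finite CoxeterMatrix.F₄.Group :=
    RGDFold.finite_W (hp := RGDTwE6.hp) CoxeterMatrix.F₄.toCoxeterSystem RGDTwE6.isCartan RGDTwE6.foldData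
  have hp2 : p ≠ 2 := by
    rintro rfl
    exact two_ne K hK CharTwo.two_eq_zero
  have ho : Odd q := (Nat.odd_pow_iff two_ne_zero).1 (hc ▸ hK)
  have hN := H310.OQ.TwE6.node hφ hqq
  have S : H684.OQ.In p CoxeterMatrix.F₄.toCoxeterSystem RGDTwE6.isCartan (RGDTwE6.T K q) (RGDTwE6.nn hφ)
      (RGDTwE6.X φ q) := PX.in_fold' RGDTwE6.foldData (RGDTwE6.foldGrp hφ hqq) RGDTwE6.isCartan p (two_ne K hK)
    (by decide +kernel) hN H310.OQ.TwE6.par H310.OQ.TwE6.cls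
  have C := cmb_tw CoxeterMatrix.F₄.toCoxeterSystem
  have F := frameData_tw (K := K) (q := q) (φ := φ) CoxeterMatrix.F₄.toCoxeterSystem
  exact hm S.rgd _ (gd_frame S hpp hp2 (ab_fold K hN) C F (H491.Sd.FrTw.odd_index_tw hφ hqq _ p hq hc ho F
    (Fintype.card_fin 4) (card_P_tw _) (long_tw _)) (dg_2E6 hK hc) (S1070.result hq hc))
    (au_pm S C.root fun γ σ hγ => ⟨1, by
      rw [map_one, one_mul]
      exact H491.Sd.FrTw.pm_of_diag hφ hqq _ p hq.one_lt hc hγ⟩) S.comm S.nofix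

theorem cvr_d4 {q : ℕ} (hq : IsPrimePow q) (hc : Fintype.card K = q ^ 3) : Cvr p ↥(twistedD4 K q) := by
  obtain ⟨φ, hφ⟩ := D4Fixed.exists_frob hq hc
  have hle := D4Fixed.twisted_le_fix hc hφ
  have hpp : p.Prime := CharP.char_is_prime K p
  have : Fact p.Prime := ⟨hpp⟩
  have : Finite CoxeterMatrix.G₂.Group :=
    RGDFold.finite_W (hp := RGDTwD4.hp) CoxeterMatrix.G₂.toCoxeterSystem RGDTwD4.isCartan RGDTwD4.foldData
  have hp2 : p ≠ 2 := by
    rintro rfl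
    exact two_ne K hK CharTwo.two_eq_zero
  have ho : Odd q := (Nat.odd_pow_iff three_ne_zero).1 (hc ▸ hK)
  have hN := Fin.forall_fin_two.2 ⟨H310.OQ.TwD4.node_zero hc hφ, H310.OQ.TwD4.node_one hc hφ⟩
  have S : H684.OQ.In p CoxeterMatrix.G₂.toCoxeterSystem RGDTwD4.isCartan (RGDTwD4.T K q) (RGDTwD4.n hφ)
      (RGDTwD4.X φ q) := PX.in_fold' RGDTwD4.foldData (RGDTwD4.foldGrp hφ hle) RGDTwD4.isCartan p (two_ne K hK)
    (by decide +kernel) hN H310.OQ.TwD4.par H310.OQ.TwD4.cls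
  have C := cmb_d4 CoxeterMatrix.G₂.toCoxeterSystem
  have F : FrameData _ RGDTwD4.isCartan (RGDTwD4.X φ q) _ ⊥ :=
    frame_two C.root (FoldInst.lc_of_fibres RGDTwD4.hp TwD4.fibres)
  refine hm S.rgd _ (gd_frame S hpp hp2 (ab_fold K hN) C F ?_ (dg_3D4 hK hc) (S1071.result hq hc))
    (au_G2 S.rgd rfl (rep_d4 _).symm) S.comm S.nofix
  have hfin : Fintype (OddHalf.LongSL.Fold.FF φ) := Fintype.ofFinite _
  refine H491.Sd.odd_index S.rgd F (RGDTwD4.G1_eq_top _ hc hφ) (Fin.forall_fin_two.2 ⟨TwD4.isSL0 hφ hle hK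
    (by rw [OddHalf.LongSL.Tw.card_FF hq.two_le hc hφ]; exact ho), TwD4.isSL1 hφ hle hK⟩) fun m h1 => ?_
  have h2 : Nat.card (RGDTwD4.X φ q ![1, 2]) = q ^ 3 := by
    obtain ⟨g, hg⟩ := exists_rp _ S.rgd.nsys (CoxeterMatrix.G₂.toCoxeterSystem.simple 1 *
      CoxeterMatrix.G₂.toCoxeterSystem.simple 0)
    rw [← rep_d4 CoxeterMatrix.G₂.toCoxeterSystem, ← S.rgd.conj_rp hg (isRoot_sr _ _ 1), ← hc, ← TwD4.card_X1 hφ hle]
    exact Nat.card_congr ((RGDTwD4.X φ q (sr 1)).equivMapOfInjective _ (MulAut.conj g).injective).toEquiv.symm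
  have hT : Nat.card (RGDTwD4.T K q) = (q - 1) ^ 2 * (q ^ 2 + q + 1) := by
    rw [← S1106.result hq hc]
    exact Nat.card_congr (Subgroup.subgroupOfEquivOfLe inf_le_right).toEquiv
  rw [S1067.result hq hc] at h1
  rw [hT, Subgroup.card_bot, Fin.prod_univ_two]
  show 2 ^ m ∣ _ * 1 * ((Nat.card (RGDTwD4.X φ q (sr 0)) + 1) * (Nat.card (RGDTwD4.X φ q ![1, 2]) + 1))
  rw [TwD4.card_X0 hφ hle hq.two_le hc, h2]
  exact TwD4.ord hq.two_le ho h1

end rows

/-! ### the rows -/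

section final

variable (hm : MainC)

include hm

theorem row_f4 : Row (ChevO chevF4) := by
  intro X _ _ c Γ s
  obtain ⟨K, _, _, hK, ⟨e⟩⟩ := c.fam
  obtain ⟨p, _, hp, -⟩ := PX.exists_char K hK
  exact cvr_F4 hm K hK p X _ (ce_bot c e hp (Cv.center_eq_bot c (Cv.mb_f4.congr e))) Γ s

theorem row_e7 : Row (ChevO chevE7) := by
  intro X _ _ c Γ s
  obtain ⟨K, _, _, hK, ⟨e⟩⟩ := c.fam
  obtain ⟨p, _, hp, -⟩ := PX.exists_char K hK
  exact cvr_E7 hm K hK p X _ (ce_bot c e hp (Cv.center_eq_bot c (Cv.mb_e7.congr e))) Γ s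

theorem row_e8 : Row (ChevO chevE8) := by
  intro X _ _ c Γ s
  obtain ⟨K, _, _, hK, ⟨e⟩⟩ := c.fam
  obtain ⟨p, _, hp, -⟩ := PX.exists_char K hK
  exact cvr_E8 hm K hK p X _ (ce_bot c e hp (Cv.center_eq_bot c (Cv.mb_e8.congr e))) Γ s

theorem row_e6 : Row (ChevO chevE6) := by
  intro X _ _ c Γ s
  obtain ⟨K, _, _, hK, ⟨e⟩⟩ := c.fam
  obtain ⟨p, _, -⟩ := PX.exists_char K hK
  exact cvr_E6 hm K hK p X _ (Cv.e6_ce c e p).1 Γ s

theorem row_tw : Row TwE6O := by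
  intro X _ _ c Γ s
  obtain ⟨K, _, _, q, hK, hq, hc, ⟨e⟩⟩ := c.fam
  obtain ⟨p, _, -⟩ := PX.exists_char K hK
  exact cvr_tw hm K hK p hq hc X _ (Cv.tw_ce c hq hc e p).1 Γ s

theorem row_d4 : Row TwD4O := by
  intro X _ _ c Γ s
  obtain ⟨K, _, _, q, hK, hq, hc, ⟨e⟩⟩ := c.fam
  obtain ⟨p, _, hp, -⟩ := PX.exists_char K hK
  exact cvr_d4 hm K hK p hq hc X _ (ce_bot c e hp (Cv.center_eq_bot c ((Cv.mb_d4 hq hc).congr e))) Γ s

/-- the triple cover of `G₂(3)` is a hypothesis -/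
theorem row_g2 (hs : StepSm)
    (h3 : ∀ (F : Type) [Field F] [Fintype F], Fintype.card F = 3 → S.SmC ↥(chevG2.group F)) : Row (ChevO chevG2) := by
  intro X _ _ c Γ s
  obtain ⟨K, _, _, hK, ⟨e⟩⟩ := c.fam
  obtain ⟨p, _, hp, -⟩ := PX.exists_char K hK
  have h1 := fun h => cvr_G2 hm K hK p X _ (ce_bot c e hp h) Γ s
  by_cases h : Fintype.card K = 3
  · rcases (Nat.dvd_prime Nat.prime_three).1 (Cv.card_center_dvd c ((Cv.mb_g23 h).congr e)) with h2 | h2
    · exact h1 (Subgroup.card_eq_one.1 h2)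
    · exact S.gd_of_card hs s e h2 (h3 K h)
  · have h2 := three_le hK
    exact h1 (Cv.center_eq_bot c ((Cv.mb_g2 (by omega)).congr e))

end final

end Cfsg.Agent.MK.GX
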