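import Cfsg.Agent.MK.GX.Root
import Cfsg.Agent.MK.G.Defs
import Cfsg.Agent.MK.Basic
import Cfsg.Agent.GAL.Nrm.Gen
import Cfsg.Agent.H381.OQ.Half

/-!
# MK, exceptional rows: the data `GD`, `Au` for a frame of abelian root groups (helper9)

`gd_frame`, `au_pm`, `au_G2`.
-/

set_option autoImplicit false
set_option linter.unusedSectionVars false

namespace Cfsg.Agent.MK.GX

open Cfsg CoxeterSystem Cfsg.Agent.ChevalleyStructure.CoxeterGeom Cfsg.Agent.Tits.Roots Cfsg.Agent.Nodes.Reps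
  Cfsg.Agent.Nodes.BNOf Cfsg.Agent.Nodes.Bruhat Cfsg.Agent.KFacts.RgdAut Cfsg.Agent.KFacts.RgdDiag
  Cfsg.Agent.ClosedExc.Frame Cfsg.Agent.ODD.QB Cfsg.Agent.MK.G Cfsg.Agent.GAL.Nrm
open Cfsg.Agent.H491.Sd (MF PM)
open Cfsg.Agent.Nodes.FreeTorus (LL)

variable {I W Y ι : Type} [Fintype I] [DecidableEq I] [Group W] [Finite W] [Group Y] [Finite Y] [Fintype ι]
  {M : CoxeterMatrix I} {cs : CoxeterSystem M W} {A : I → I → ℤ} {h : IsCartan M A} {p : ℕ} {T : Subgroup Y}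
  {n : I → Y} {X : (I → ℤ) → Subgroup Y} {β : ι → I → ℤ} {P : Subgroup W}

/-- abelian root groups -/
def Ab (X : (I → ℤ) → Subgroup Y) : Prop := ∀ i, ∀ a ∈ X (sr i), ∀ b ∈ X (sr i), a * b = b * a

theorem Ab.zc_eq (hab : Ab X) (R : RGD cs h p T n X) {x : I → ℤ} (hx : IsRoot cs h x) : zc (X x) = X x := by
  obtain ⟨w, i, rfl⟩ := hx
  obtain ⟨k, hk⟩ := exists_rp cs R.nsys w
  rw [← cj_zc (R.conj_rp hk (isRoot_sr cs h i)), ← R.conj_rp hk (isRoot_sr cs h i)]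
  exact congrArg _ (inf_eq_left.2 fun a ha => Subgroup.mem_centralizer_iff.2 fun b hb => hab i b hb a ha)

theorem Ab.LZ_eq (hab : Ab X) (R : RGD cs h p T n X) {x : I → ℤ} (hx : IsRoot cs h x) : LZ X x = LL X x := by
  rw [LZ, hab.zc_eq R hx, hab.zc_eq R hx.neg]
  rfl

theorem Ab.rk (hab : Ab X) (R : RGD cs h p T n X) {x : I → ℤ} (hx : IsRoot cs h x) : Rk R x := by
  rw [Rk, hab.zc_eq R hx, hab.zc_eq R hx.neg]
  obtain ⟨w, i, rfl⟩ := hx
  obtain ⟨k, hk⟩ := exists_rp cs R.nsys w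
  rw [← map_neg, ← R.conj_rp hk (isRoot_sr cs h i), ← R.conj_rp hk (isRoot_sr cs h i).neg]
  rintro _ ⟨y, hy, rfl⟩ h1
  obtain ⟨a, ha, t, ht, b, hb, rfl⟩ := R.rk1 i y hy fun e => h1 (by rw [e, map_one])
  refine ⟨_, ⟨_, inv_mem ha, rfl⟩, _, ⟨_, inv_mem hb, rfl⟩, ?_⟩
  rw [← map_mul, ← map_mul, show a⁻¹ * (a * t * n i * b) * b⁻¹ = t * n i by group]
  exact ⟨_, (hk.mul ((rp_of_mem ht).mul (rp_simple cs R.nsys i))).mul hk.inv⟩

/-- the normaliser of a Sylow subgroup -/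
theorem syl_of (S : H684.OQ.In p cs h T n X) (hdg : AllDG Y) {L : Subgroup Y} (hT : T ≤ L) (ho : Odd L.index) :
    ∃ Q : Sylow 2 Y, Subgroup.normalizer ((Q : Subgroup Y) : Set Y) ≤ L := by
  obtain ⟨Q₀, h1, h2, h3, h4⟩ := H55.Sd.exists_syl (H := L) (isPGroup_T2 S.comm) (fun t ht => hT ht.1)
  obtain ⟨Q, rfl⟩ := MK.exists_sylow h3 (by rw [← Subgroup.relIndex_mul_index h1]; exact h4.mul ho)
  refine ⟨Q, fun g hg => ?_⟩
  obtain ⟨a, k, j, hj, h5, h6⟩ := exists_parts g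
  have h7 := hj.of_dvd_nat (orderOf_dvd_of_pow_eq_one h6)
  have h8 := hdg Q _ (mul_mem (inv_mem (pow_mem hg a)) hg) h7
  rw [← mul_inv_cancel_left (g ^ a) g]
  exact mul_mem (h1 (mem_of_pow_mem Q (pow_mem hg a) (k := k) (h5 ▸ one_mem _)))
    (hT (H381.OQ.mem_T_of_cent S.rgd S.top S.nofix (hc := S.comm) S.faith (Subgroup.centralizer_le h2 h8) h7))

/-- **The data of a frame of abelian root groups.** -/
theorem gd_frame (S : H684.OQ.In p cs h T n X) (hp : p.Prime) (hp2 : p ≠ 2) (hab : Ab X) (C : Cmb cs h β)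
    (F : FrameData cs h X β P) (ho : Odd (MF S.rgd β P).index) (hdg : AllDG Y)
    (hs : IsSimpleGroup Y ∧ ¬ IsMulCommutative Y) [Nontrivial ι] : GD S.rgd β := by
  have h0 : ∀ a, LZ X (β a) = LL X (β a) := fun a => hab.LZ_eq S.rgd (F.root a)
  have h1 : MF S.rgd β P ≤ MM S.rgd β := by
    rw [MM_def, iSup_congr h0]
    exact sup_le_sup_left (fun g ⟨w, hw, hg⟩ => ⟨w, F.perm w hw, hg⟩) _
  refine ⟨hp, hp2, S.top, F.root, fun a => hab.rk S.rgd (F.root a), fun a b e => by rw [h0, h0]; exact F.orth a b e,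
    C.weyl, syl_of S hdg ((T_le_NP S.rgd).trans le_sup_right) (ho.of_dvd_nat (Subgroup.index_dvd_of_le h1)),
    fun h2 => hs.2 ?_⟩
  have := hs.1
  rw [MM_def, iSup_congr h0] at h2
  have h3 : ∀ a, LL X (β a) ≠ ⊥ := fun a e => X_ne_bot S.rgd (F.root a) (le_bot_iff.1 (e ▸ le_sup_left))
  have h4 : (⨆ a, LL X (β a)) = ⊤ := by
    refine (Subgroup.Normal.eq_bot_or_eq_top (Subgroup.normalizer_eq_top_iff.1 (top_le_iff.1 (h2 ▸ sup_le
      Subgroup.le_normalizer ?_)))).resolve_left fun e =>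
        h3 (Classical.arbitrary ι) (le_bot_iff.1 (e ▸ le_iSup (fun a => LL X (β a)) _))
    have h5 : ∀ g ∈ NP S.rgd (WD cs h β), cj g (⨆ a, LL X (β a)) ≤ ⨆ a, LL X (β a) := by
      rintro g ⟨w, hw, hg⟩
      rw [cj_iSup]
      refine iSup_le fun a => ?_
      obtain ⟨b, hb⟩ := hw a
      rw [ClosedExc.Rk.rp_cj_LL S.rgd hg (F.root a)]
      refine le_trans (le_of_eq ?_) (le_iSup (fun a => LL X (β a)) b)
      rcases hb with hb | hb
      · rw [hb]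
      · rw [hb, Nodes.FreeTorus.LL_neg]
    intro g hg
    rw [mem_normalizer_iff_cj]
    exact le_antisymm (h5 g hg) (by simpa only [cj_cj_inv] using cj_mono g (h5 g⁻¹ (inv_mem hg)))
  have h5 : ∀ a, LL X (β a) = ⊤ := fun a =>
    (Subgroup.Normal.eq_bot_or_eq_top (Subgroup.normalizer_eq_top_iff.1 (eq_top_iff.2 fun g _ =>
      mem_normalizer_iff_cj.2 (frame_cj_E F (h4 ▸ Subgroup.mem_top g) a)))).resolve_left (h3 a)
  obtain ⟨a, b, e⟩ := exists_pair_ne ι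
  exact ⟨⟨fun x y => F.orth a b e x (h5 a ▸ Subgroup.mem_top x) y (h5 b ▸ Subgroup.mem_top y)⟩⟩

theorem au_pm (S : H684.OQ.In p cs h T n X) (hβ : ∀ a, IsRoot cs h (β a))
    (hD : ∀ γ σ, Diag T X γ σ → ∃ g, PM cs h T X (MulAut.conj g * γ)) : Au S.rgd β ⊤ := by
  intro γ _ σ D
  obtain ⟨g, hg⟩ := hD γ σ D
  have h1 := hg.tor.mul D.tor.inv
  rw [mul_inv_cancel_right] at h1
  refine ⟨g, H491.Sd.exists_rp_of_norm S.rgd S.top (noFix_of S.rgd S.nofix) (fix_conj.1 h1), fun a => ⟨a, ?_⟩⟩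
  rcases hg.root with h2 | h2
  · exact Or.inl ⟨h2 _ (hβ a), h2 _ (hβ a).neg⟩
  · exact Or.inr ⟨h2 _ (hβ a), h2 _ (hβ a).neg⟩

theorem pm_one (R : RGD cs h p T n X) {γ : MulAut Y} (D : Diag T X γ 1) : ∃ g, PM cs h T X (MulAut.conj g * γ) :=
  ⟨1, by
    rw [map_one, one_mul]
    exact ⟨D.tor, Or.inl fun x hx y => D.root_comp R (fun _ _ => rfl) hx y⟩⟩

section g2

variable {cs : CoxeterSystem CoxeterMatrix.G₂ W} {A : Fin 2 → Fin 2 → ℤ} {h : IsCartan CoxeterMatrix.G₂ A}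
  {n : Fin 2 → Y} {X : (Fin 2 → ℤ) → Subgroup Y}

/-- **type `G₂`** -/
theorem au_G2 (R : RGD cs h p T n X) {β : Fin 2 → Fin 2 → ℤ} (h0 : β 0 = sr 0)
    (h1 : β 1 = rep cs h (cs.simple 1 * cs.simple 0) (sr 1)) : Au R β ⊤ := by
  intro γ _ σ D
  have hσ := D.matrix R
  have h2 : ∀ (w : W) (i : Fin 2), Mv X γ (rep cs h w (sr i)) (rep cs h (hat cs σ hσ w) (sr (σ i))) := fun w i => by
    refine ⟨D.root R hσ w i, fun y => ?_⟩
    have h3 := D.root R hσ (w * cs.simple i) i y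
    rwa [map_mul, hat_simple, rep_mul_apply, rep_mul_apply, rep_simple_sr, rep_simple_sr, map_neg, map_neg] at h3
  have h3 : ∀ {w g}, Rp cs R.nsys w g → ∀ {x y}, IsRoot cs h y → Mv X γ x y →
      Mv X (MulAut.conj g * γ) x (rep cs h w y) := fun hg x y hy H => by
    refine ⟨fun z => ?_, fun z => ?_⟩
    · rw [← R.conj_rp hg hy, ← H.1]
      exact conj_mem_cj
    · rw [← map_neg, ← R.conj_rp hg hy.neg, ← H.2]
      exact conj_mem_cj
  have h4 := h2 1 0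
  have h5 := h2 (cs.simple 1 * cs.simple 0) 1
  rw [map_one (hat cs σ hσ), map_one, Module.End.one_apply, Module.End.one_apply] at h4
  rw [map_mul (hat cs σ hσ), hat_simple, hat_simple] at h5
  rcases (by decide : ∀ σ : Equiv.Perm (Fin 2), (σ 0 = 0 ∧ σ 1 = 1) ∨ (σ 0 = 1 ∧ σ 1 = 0)) σ with
    ⟨e0, e1⟩ | ⟨e0, e1⟩
  · rw [e0, ← h0] at h4
    rw [e0, e1, ← h1] at h5
    refine ⟨1, one_mem _, ?_⟩
    rw [map_one, one_mul]
    exact Fin.forall_fin_two.2 ⟨⟨0, Or.inl h4⟩, ⟨1, Or.inl h5⟩⟩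
  · obtain ⟨g, hg⟩ := exists_rp cs R.nsys (cs.simple 1 * cs.simple 0)
    rw [e0] at h4
    rw [e0, e1] at h5
    have h6 := h3 hg (isRoot_sr cs h 1) h4
    have h7 := h3 hg ((isRoot_sr cs h 0).act _) h5
    rw [← h1, ← h0] at h6
    rw [← rep_mul_apply, mul_assoc, cs.simple_mul_simple_cancel_left, cs.simple_mul_simple_self, map_one,
      Module.End.one_apply, ← h1, ← h0] at h7
    exact ⟨g, ⟨_, hg⟩, Fin.forall_fin_two.2 ⟨⟨1, Or.inl h6⟩, ⟨0, Or.inl h7⟩⟩⟩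

end g2

end Cfsg.Agent.MK.GX
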