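import Cfsg.Agent.MK.GX.Fr
import Cfsg.Agent.MK.G.Main
import Cfsg.Agent.MK.GA.Map

/-!
# MK: frames of nodes of type `SL₂` (helper9)

`rk_nd`, `syl_of'`, `odd_MM`, `ne_nd`, `gd_map`: `GD` for a central quotient from the data on the cover.
-/

set_option autoImplicit false
set_option linter.unusedSectionVars false

namespace Cfsg.Agent.MK.GX

open Cfsg Matrix CoxeterSystem Cfsg.Agent.ChevalleyStructure.CoxeterGeom Cfsg.Agent.Tits.Roots Cfsg.Agent.Nodes.Reps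
  Cfsg.Agent.Nodes.BNOf Cfsg.Agent.Nodes.Bruhat Cfsg.Agent.KFacts.RgdAut Cfsg.Agent.KFacts.RgdDiag
  Cfsg.Agent.ClosedExc.Frame Cfsg.Agent.ODD.QB Cfsg.Agent.MK.G Cfsg.Agent.GAL.Nrm Cfsg.Agent.H310.OQ
open Cfsg.Agent.H684.OQ (TWFaithful)
open Cfsg.Agent.H69.OQ (NoFix)

variable {I W Y ι : Type} [Fintype I] [DecidableEq I] [Group W] [Finite W] [Group Y] [Finite Y] [Fintype ι]
  {M : CoxeterMatrix I} {cs : CoxeterSystem M W} {A : I → I → ℤ} {h : IsCartan M A} {p : ℕ} {T : Subgroup Y}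
  {n : I → Y} {X : (I → ℤ) → Subgroup Y} {β : ι → I → ℤ} {k : Type} [Field k] {R : RGD cs h p T n X}

theorem nd_mem {x : I → ℤ} {Φ : SpecialLinearGroup (Fin 2) k →* Y} (N : Nd R x Φ) (c : kˣ) :
    Φ (dd c) ∈ NN cs R.nsys ∧ Φ (dd c * ww) ∈ NN cs R.nsys := by
  obtain ⟨w, h1, -⟩ := N.ref
  exact ⟨⟨1, rp_of_mem (N.tor c)⟩, _, map_mul Φ _ _ ▸ (rp_of_mem (N.tor c)).mul h1⟩

theorem rk_nd {x : I → ℤ} {Φ : SpecialLinearGroup (Fin 2) k →* Y} (N : Nd R x Φ) : Rk R x := by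
  intro y hy h1
  rw [← cj_zc N.cj_ww.1] at hy
  obtain ⟨z, hz, rfl⟩ := hy
  obtain ⟨t, rfl⟩ := (N.up z).1 hz
  have h2 : t ≠ 0 := by
    rintro rfl
    exact h1 (by rw [uu_zero, map_one, map_one])
  obtain ⟨c, rfl⟩ : ∃ c : kˣ, ((c⁻¹ : kˣ) : k) = t := ⟨(Units.mk0 _ h2)⁻¹, rfl⟩
  refine ⟨_, (N.up _).2 ⟨c, rfl⟩, _, (N.up _).2 ⟨c, rfl⟩, ?_⟩
  change Φ _ * (Φ _ * Φ _ * (Φ _)⁻¹) * Φ _ ∈ _
  rw [← map_inv, ← map_mul, ← map_mul, ← map_mul, ← map_mul, ww_conj, ← mul_assoc, ← mul_assoc, ← mul_assoc, uu_mul,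
    mul_assoc _ (uu _), uu_mul, add_neg_cancel, neg_add_cancel, uu_zero, one_mul, mul_one]
  exact (nd_mem N c).2

variable (R)

/-- the normaliser of a Sylow subgroup -/
theorem syl_of' (hG : GG cs h T X = ⊤) (hc : ∀ a ∈ T, ∀ b ∈ T, a * b = b * a) (hnf : NoFix cs h T X)
    (hf : TWFaithful cs T n R.nsys) (hdg : AllDG Y) {L : Subgroup Y} (hT : T ≤ L) (ho : Odd L.index) :
    ∃ Q : Sylow 2 Y, Subgroup.normalizer ((Q : Subgroup Y) : Set Y) ≤ L := by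
  obtain ⟨Q₀, h1, h2, h3, h4⟩ := H55.Sd.exists_syl (H := L) (isPGroup_T2 hc) (fun t ht => hT ht.1)
  obtain ⟨Q, rfl⟩ := MK.exists_sylow h3 (by rw [← Subgroup.relIndex_mul_index h1]; exact h4.mul ho)
  refine ⟨Q, fun g hg => ?_⟩
  obtain ⟨a, k, j, hj, h5, h6⟩ := exists_parts g
  have h7 := hj.of_dvd_nat (orderOf_dvd_of_pow_eq_one h6)
  have h8 := hdg Q _ (mul_mem (inv_mem (pow_mem hg a)) hg) h7
  rw [← mul_inv_cancel_left (g ^ a) g]
  exact mul_mem (h1 (mem_of_pow_mem Q (pow_mem hg a) (k := k) (h5 ▸ one_mem _)))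
    (hT (H381.OQ.mem_T_of_cent R hG hnf (hc := hc) hf (Subgroup.centralizer_le h2 h8) h7))

/-- the index of the group of the frame, by the order of the group -/
theorem odd_MM [Finite k] (hp : p.Prime) (hG : GG cs h T X = ⊤) (hc : ∀ a ∈ T, ∀ b ∈ T, a * b = b * a)
    (hnf : NoFix cs h T X) (hN : ∀ a, ∃ Φ : SpecialLinearGroup (Fin 2) k →* Y, Nd R (β a) Φ)
    (ho : ∀ a b, a ≠ b → ∀ u ∈ LZ X (β a), ∀ v ∈ LZ X (β b), Commute u v)
    (hσ : ∀ σ : Equiv.Perm ι, ∃ w, ∀ a, rep cs h w (β a) = β (σ a) ∨ rep cs h w (β a) = -β (σ a))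
    (hord : ∀ j : ℕ, 2 ^ j ∣ Nat.card Y →
      2 ^ j ∣ Nat.card T * (Nat.card k + 1) ^ Fintype.card ι * (Fintype.card ι).factorial) : Odd (MM R β).index := by
  obtain ⟨β', Φ, h1, h0, N⟩ := exists_pos hN
  have F := fr_of_nd hG hc hnf N h0 fun a b hab => by rw [LZ_congr h1, LZ_congr h1]; exact ho a b hab
  have h3 := F.dvd_card (fun a => (N a).card_conj (h0 a)) fun σ => by
    obtain ⟨w, hw⟩ := hσ σ
    obtain ⟨g, hg⟩ := exists_rp cs R.nsys w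
    exact ⟨g, hg.mem_normalizer, acts_rp (R := R) (fun a => (N a).root) F.inj hg fun a => pm_trans (h1 a) (h1 (σ a)) (hw a)⟩
  have h2 : (⨆ a, KK (Zr X β') a) ⊔ (NH T (Zr X β')).comap MulAut.conj ≤ MM R β' := by
    refine sup_le_sup le_rfl ?_
    rintro g ⟨h4, π, h5⟩
    obtain ⟨w, hw⟩ := H491.Sd.exists_rp_of_norm R hG (noFix_of R hnf) (fix_conj.1 h4)
    refine ⟨w, fun a => ⟨(π (a, true)).1, ?_⟩, hw⟩
    have h6 : zc (X (rep cs h w (β' a))) = Zr X β' (π (a, true)) := Subgroup.ext fun y => by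
      have h7 := (zc_cj (R.conj_rp hw (N a).root) (g⁻¹ * y * g)).trans (h5.2 (a, true) (g⁻¹ * y * g)).symm
      rwa [MulAut.conj_apply, show g * (g⁻¹ * y * g) * g⁻¹ = y by group] at h7
    obtain ⟨⟨b, _ | _⟩, hx⟩ : ∃ x, π (a, true) = x := ⟨_, rfl⟩
    · rw [hx] at h6 ⊢
      exact Or.inr (zc_inj R hp ((N a).root.act w) (N b).root.neg h6)
    · rw [hx] at h6 ⊢
      exact Or.inl (zc_inj R hp ((N a).root.act w) (N b).root h6)
  have h4 := h3.trans (Subgroup.card_dvd_of_le h2)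
  rw [MM_congr h1] at h4
  generalize MM R β = H at h4
  rw [← Nat.not_even_iff_odd, even_iff_two_dvd]
  intro h5
  refine Nat.pow_succ_factorization_not_dvd (Nat.card_pos (α := H)).ne' Nat.prime_two ((hord _ ?_).trans h4)
  rw [← H.card_mul_index, pow_succ]
  exact mul_dvd_mul (Nat.ordProj_dvd _ 2) h5

theorem cj_LZ {w : W} {g : Y} (hg : Rp cs R.nsys w g) {x : I → ℤ} (hx : IsRoot cs h x) :
    cj g (LZ X x) = LZ X (rep cs h w x) := by
  rw [LZ, LZ, ← map_neg, ← cj_zc (R.conj_rp hg hx), ← cj_zc (R.conj_rp hg hx.neg)]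
  exact Subgroup.map_sup _ _ _

/-- the group of the frame is proper -/
theorem ne_nd (hp : p.Prime) (hs : IsSimpleGroup Y ∧ ¬ IsMulCommutative Y)
    (hN : ∀ a, ∃ Φ : SpecialLinearGroup (Fin 2) k →* Y, Nd R (β a) Φ)
    (ho : ∀ a b, a ≠ b → ∀ u ∈ LZ X (β a), ∀ v ∈ LZ X (β b), Commute u v)
    (hι : Nontrivial ι ∨ ∃ a, 0 ≤ β a ∧ ¬ X (β a) ≤ zc (X (β a))) : MM R β ≠ ⊤ := by
  intro h2
  have := hs.1
  choose Φ N using hN
  have h0 : Nonempty ι := hι.elim (fun _ => inferInstance) fun ⟨a, _⟩ => ⟨a⟩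
  have h3 : ∀ a, LZ X (β a) ≠ ⊥ := fun a e => zc_ne_bot R hp (N a).root (le_bot_iff.1 (e ▸ le_sup_left))
  have h4 : (⨆ a, LZ X (β a)) = ⊤ := by
    refine (Subgroup.Normal.eq_bot_or_eq_top (Subgroup.normalizer_eq_top_iff.1 (top_le_iff.1 (h2 ▸ sup_le
      Subgroup.le_normalizer ?_)))).resolve_left fun e =>
        h3 (Classical.arbitrary ι) (le_bot_iff.1 (e ▸ le_iSup (fun a => LZ X (β a)) _))
    have h5 : ∀ g ∈ NP R (WD cs h β), cj g (⨆ a, LZ X (β a)) ≤ ⨆ a, LZ X (β a) := by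
      rintro g ⟨w, hw, hg⟩
      rw [cj_iSup]
      refine iSup_le fun a => ?_
      obtain ⟨b, hb⟩ := hw a
      rw [cj_LZ R hg (N a).root]
      refine le_trans (le_of_eq ?_) (le_iSup (fun a => LZ X (β a)) b)
      rcases hb with hb | hb
      · rw [hb]
      · rw [hb, LZ_neg]
    intro g hg
    rw [mem_normalizer_iff_cj]
    exact le_antisymm (h5 g hg) (by simpa only [cj_cj_inv] using cj_mono g (h5 g⁻¹ (inv_mem hg)))
  have h5 : ∀ a, LZ X (β a) = ⊤ := fun a => by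
    refine (Subgroup.Normal.eq_bot_or_eq_top (Subgroup.normalizer_eq_top_iff.1 (top_le_iff.1
      (h4 ▸ iSup_le fun b => ?_)))).resolve_left (h3 a)
    by_cases hab : b = a
    · exact hab ▸ Subgroup.le_normalizer
    · exact fun y hy => Subgroup.centralizer_le_normalizer _ fun x hx => (ho b a hab y hy x hx).symm
  rcases hι with _ | ⟨a, h6, h7⟩
  · obtain ⟨a, b, e⟩ := exists_pair_ne ι
    exact hs.2 ⟨⟨fun x y => ho a b e x (h5 a ▸ Subgroup.mem_top x) y (h5 b ▸ Subgroup.mem_top y)⟩⟩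
  · refine h7 fun u hu => ?_
    obtain ⟨s, rfl⟩ : u ∈ (Φ a).range := (N a).range ▸ h5 a ▸ Subgroup.mem_top u
    have h8 : ∀ x y z, s = uu x * z * uu y → Φ a z ∈ NN cs R.nsys → Φ a z = 1 := fun x y z e hz =>
      uniq_N R _ hz 1 (one_mem _) _ ((N a).uu_mem h6 x) _ (mul_mem ((N a).uu_mem h6 y)
        (inv_mem (RGD.le_Sup (S := RGD.Pos cs h) ⟨(N a).root, h6⟩ hu))) (by
          rw [← mul_assoc, ← map_mul, ← map_mul, ← e, mul_inv_cancel])
    obtain ⟨x, y, c, e | e⟩ := sl2_bru s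
    · rw [e, map_mul, map_mul, h8 _ _ _ e (nd_mem (N a) c).1, mul_one]
      exact mul_mem (((N a).up _).2 ⟨x, rfl⟩) (((N a).up _).2 ⟨y, rfl⟩)
    · have h9 := h8 _ _ _ e (nd_mem (N a) c).2
      rw [map_mul] at h9
      exact absurd (RGD.T_le_B (eq_inv_of_mul_eq_one_right h9 ▸ inv_mem ((N a).tor c))) (N a).not_mem_B

variable {S : Type} [Group S] [Finite S] {f : Y →* S}

/-- **The data of the frame on a central quotient.** -/
theorem gd_map (R' : RGD cs h p (T.map f) (fun i => f (n i)) fun x => (X x).map f) (hp : p.Prime) (hp2 : p ≠ 2)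
    (hf : Function.Surjective f) (hk : f.ker ≤ Subgroup.center Y) (hG : GG cs h T X = ⊤)
    (hc : ∀ a ∈ T, ∀ b ∈ T, a * b = b * a) (hnf : NoFix cs h T X) (hw : TWFaithful cs T n R.nsys)
    (hN : ∀ a, ∃ Φ : SpecialLinearGroup (Fin 2) k →* Y, Nd R (β a) Φ)
    (ho : ∀ a b, a ≠ b → ∀ u ∈ LZ X (β a), ∀ v ∈ LZ X (β b), Commute u v)
    (hW : ∃ Q : Sylow 2 W, Subgroup.normalizer ((Q : Subgroup W) : Set W) ≤ WD cs h β) (hodd : Odd (MM R β).index)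
    (hdg : AllDG S) (hs : IsSimpleGroup S ∧ ¬ IsMulCommutative S)
    (hι : Nontrivial ι ∨ ∃ a, 0 ≤ β a ∧ ¬ X (β a) ≤ zc (X (β a))) : GD R' β := by
  have hr : ∀ a, IsRoot cs h (β a) := fun a => (hN a).choose_spec.root
  have hN' : ∀ a, ∃ Φ : SpecialLinearGroup (Fin 2) k →* S, Nd R' (β a) Φ := fun a =>
    ⟨_, GA.nd_map R R' hk hnf (hN a).choose_spec⟩
  have ho' := GA.orth_map hk hnf hr ho
  refine ⟨hp, hp2, GA.top_map hf hG, hr, fun a => rk_nd (hN' a).choose_spec, ho', hW,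
    syl_of' R' (GA.top_map hf hG) (GA.comm_map hc) (hnf.map R.tor f hk) (GA.faith_map R R' hk hc hw) hdg
      ((T_le_NP R').trans le_sup_right) (GA.odd_map R R' hf hk hnf hr hodd),
    ne_nd R' hp hs hN' ho' (hι.imp_right fun ⟨a, h1, h2⟩ => ⟨a, h1, fun h3 => h2 fun u hu => ?_⟩)⟩
  have h4 := h3 (Subgroup.mem_map_of_mem f hu)
  rw [GA.zc_map hk hnf (hr a)] at h4
  obtain ⟨v, hv, e⟩ := h4
  have h5 : v⁻¹ * u ∈ Subgroup.center Y := hk (by rw [MonoidHom.mem_ker, map_mul, map_inv, e, inv_mul_cancel])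
  rw [← inv_mul_eq_one.1 (hnf _ (hr a) _ (mul_mem (inv_mem hv.1) hu) fun t _ _ => Subgroup.mem_center_iff.1 h5 t)]
  exact hv

/-- the orders of the centres of the root groups -/
theorem card_zc_map (hk : f.ker ≤ Subgroup.center Y) (hnf : NoFix cs h T X) {x : I → ℤ} (hx : IsRoot cs h x) :
    Nat.card (zc ((X x).map f)) = Nat.card (zc (X x)) := by
  rw [GA.zc_map hk hnf hx]
  refine (Nat.card_congr (Equiv.ofBijective (fun u : zc (X x) => (⟨f u, u, u.2, rfl⟩ : (zc (X x)).map f))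
    ⟨fun u v e => Subtype.ext ?_, fun ⟨_, u, hu, rfl⟩ => ⟨⟨u, hu⟩, rfl⟩⟩)).symm
  have h5 : (u : Y)⁻¹ * v ∈ Subgroup.center Y :=
    hk (by rw [MonoidHom.mem_ker, map_mul, map_inv, show f u = f v from congrArg Subtype.val e, inv_mul_cancel])
  exact inv_mul_eq_one.1 (hnf _ hx _ (mul_mem (inv_mem u.2.1) v.2.1) fun t _ _ => Subgroup.mem_center_iff.1 h5 t)

theorem card_zc_diag {γ : MulAut Y} {σ : Equiv.Perm I} (D : Diag T X γ σ) (i : I) :
    Nat.card (zc (X (sr i))) = Nat.card (zc (X (sr (σ i)))) :=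
  Nat.card_congr (γ.toEquiv.subtypeEquiv fun y => (zc_iff (D.pos i) y).symm)

omit R in
theorem au_one (R : RGD cs h p T n X) (hr : ∀ a, IsRoot cs h (β a)) (h1 : ∀ γ σ, Diag T X γ σ → σ = 1) : Au R β ⊤ := by
  intro γ _ σ D
  obtain rfl := h1 γ σ D
  refine ⟨1, one_mem _, fun a => ⟨a, Or.inl ?_⟩⟩
  rw [map_one, one_mul]
  exact ⟨D.root_comp R (fun _ _ => rfl) (hr a), D.root_comp R (fun _ _ => rfl) (hr a).neg⟩

end Cfsg.Agent.MK.GX
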