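import Cfsg.Agent.Nodes.Coroot

/-!
# MK, exceptional rows: frames of roots (helper9)

* `Out β x`, `Cmb cs h β`: the combinatorics of a frame;
* `not_two`: the product of two reflections with odd pairings is not a `2`-element;
* `Cmb.weyl`: a Sylow `2`-subgroup of `W` whose normaliser stabilises the frame;
* `Bf`, `cpr_eq`, `cmb_of`: the criterion with a symmetriser of the Cartan matrix.
-/

set_option autoImplicit false
set_option linter.unusedSectionVars false

namespace Cfsg.Agent.MK.GX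

open CoxeterSystem Cfsg.Agent.ChevalleyStructure.CoxeterGeom Cfsg.Agent.Tits.Roots Cfsg.Agent.Nodes.Reps
  Cfsg.Agent.Nodes.BNOf Cfsg.Agent.Nodes.SubComb Cfsg.Agent.Nodes.Coroot

variable {I W : Type} [Fintype I] [DecidableEq I] [Group W] [Finite W]
  {M : CoxeterMatrix I} {cs : CoxeterSystem M W} {A : I → I → ℤ} {h : IsCartan M A} {ι : Type} {β : ι → I → ℤ}

/-- `x` is not in `± β` -/
def Out (β : ι → I → ℤ) (x : I → ℤ) : Prop := ∀ a, x ≠ β a ∧ x ≠ -β a

variable (cs h) in
/-- the combinatorics of a frame -/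
structure Cmb (β : ι → I → ℤ) : Prop where
  root : ∀ a, IsRoot cs h (β a)
  orth : ∀ a b, a ≠ b → cpr cs h (β a) (β b) = 0
  odd2 : ∀ w b, Out β (rep cs h w (β b)) →
    ∃ a, Odd (cpr cs h (rep cs h w (β b)) (β a)) ∧ Odd (cpr cs h (β a) (rep cs h w (β b)))

variable (cs h) in
/-- `s` is the reflection in `x` -/
def Rf (x : I → ℤ) (s : W) : Prop := ∀ v, rep cs h s v = v - cpr cs h v x • x

theorem exists_rf {x : I → ℤ} (hx : IsRoot cs h x) : ∃ s, Rf cs h x s := by
  obtain ⟨w, i, rfl⟩ := hx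
  exact ⟨_, rep_rfl'_eq cs h w i⟩

theorem Rf.conj {x : I → ℤ} (hx : IsRoot cs h x) {s : W} (hs : Rf cs h x s) (w : W) :
    Rf cs h (rep cs h w x) (w * s * w⁻¹) := fun v => by
  rw [rep_mul_apply, rep_mul_apply, hs, map_sub, map_smul, rep_apply_inv, ← cpr_rep cs h w _ hx, rep_apply_inv]

theorem cpr_sub_smul (u v : I → ℤ) (m : ℤ) {y : I → ℤ} (hy : IsRoot cs h y) :
    cpr cs h (u - m • v) y = cpr cs h u y - m * cpr cs h v y := by
  rw [sub_eq_add_neg, cpr_add cs h _ _ hy, cpr_neg cs h _ hy, cpr_smul cs h _ _ hy, ← sub_eq_add_neg]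

theorem Rf.comm {x y : I → ℤ} (hx : IsRoot cs h x) (hy : IsRoot cs h y) {s t : W} (hs : Rf cs h x s) (ht : Rf cs h y t)
    (h0 : cpr cs h x y = 0) : s * t = t * s := by
  refine rep_injective cs h (LinearMap.ext fun v => ?_)
  rw [rep_mul_apply, rep_mul_apply, hs, ht, ht, hs, cpr_sub_smul _ _ _ hx, cpr_sub_smul _ _ _ hy, h0,
    (cpr_zero_comm cs h hx hy).1 h0, mul_zero, mul_zero, sub_zero, sub_zero]
  abel

theorem Rf.sq {x : I → ℤ} (hx : IsRoot cs h x) {s : W} (hs : Rf cs h x s) : s * s = 1 := by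
  refine rep_injective cs h (LinearMap.ext fun v => ?_)
  rw [rep_mul_apply, hs, hs, cpr_sub_smul _ _ _ hx, cpr_self cs h hx, map_one, Module.End.one_apply, sub_sub,
    ← add_smul, show cpr cs h v x + (cpr cs h v x - cpr cs h v x * 2) = 0 by ring, zero_smul, sub_zero]

/-- **the product of two reflections with odd pairings is not a `2`-element** -/
theorem not_two {x y : I → ℤ} (hx : IsRoot cs h x) (hy : IsRoot cs h y) {s t : W} (hs : Rf cs h x s) (ht : Rf cs h y t)
    (h1 : Odd (cpr cs h x y)) (h2 : Odd (cpr cs h y x)) (k : ℕ) : (s * t) ^ 2 ^ k ≠ 1 := by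
  let F : (I → ℤ) → ZMod 2 × ZMod 2 := fun v => (cpr cs h v y, cpr cs h v x)
  let m : ZMod 2 × ZMod 2 → ZMod 2 × ZMod 2 := fun z => (z.2, z.1 + z.2)
  have e1 : (cpr cs h x y : ZMod 2) = 1 := (ZMod.intCast_eq_one_iff_odd).2 h1
  have e2 : (cpr cs h y x : ZMod 2) = 1 := (ZMod.intCast_eq_one_iff_odd).2 h2
  have h3 : ∀ v, F (rep cs h (s * t) v) = m (F v) := fun v => by
    simp only [F, m]
    rw [rep_mul_apply, hs, ht]
    simp only [cpr_sub_smul _ _ _ hx, cpr_sub_smul _ _ _ hy, cpr_self cs h hx, cpr_self cs h hy]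
    push_cast
    rw [e1, e2]
    generalize (cpr cs h v y : ZMod 2) = a
    generalize (cpr cs h v x : ZMod 2) = b
    revert a b
    decide
  have h4 : ∀ j v, F (rep cs h ((s * t) ^ j) v) = m^[j] (F v) := fun j => by
    induction j with
    | zero => intro v; rw [pow_zero, map_one]; rfl
    | succ j ih => intro v; rw [pow_succ, rep_mul_apply, ih, h3]; rfl
  have h5 : (∀ z, m^[2 ^ k] z = m z) ∨ ∀ z, m^[2 ^ k] z = m (m z) := by
    induction k with
    | zero => exact Or.inl fun _ => rfl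
    | succ k ih =>
      rw [pow_succ, mul_two, Function.iterate_add]
      rcases ih with ih | ih
      · exact Or.inr fun z => by rw [Function.comp_apply, ih, ih]
      · exact Or.inl fun z => by
          rw [Function.comp_apply, ih, ih]
          revert z
          decide
  intro h6
  have h7 := h4 (2 ^ k) x
  have h8 : F x = (1, 0) := by
    simp only [F]
    rw [e1, cpr_self cs h hx]
    rfl
  rw [h6, map_one, Module.End.one_apply, h8] at h7
  rcases h5 with h5 | h5
  · rw [h5] at h7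
    exact absurd h7 (by decide)
  · rw [h5] at h7
    exact absurd h7 (by decide)

/-- **A Sylow `2`-subgroup of `W` whose normaliser stabilises the frame.** -/
theorem Cmb.weyl (C : Cmb cs h β) : ∃ S : Sylow 2 W, ∀ w ∈ Subgroup.normalizer ((S : Subgroup W) : Set W),
    ∀ a, ∃ b, rep cs h w (β a) = β b ∨ rep cs h w (β a) = -β b := by
  have : Fact (Nat.Prime 2) := ⟨Nat.prime_two⟩
  choose s hs using fun a => exists_rf (C.root a)
  have h1 : ∀ a b, s a * s b = s b * s a := fun a b => by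
    by_cases hab : a = b
    · rw [hab]
    · exact Rf.comm (C.root a) (C.root b) (hs a) (hs b) (C.orth a b hab)
  have h2 : IsPGroup 2 (Subgroup.closure (Set.range s)) := by
    rintro ⟨x, hx⟩
    refine ⟨1, Subtype.ext ?_⟩
    show x ^ 2 ^ 1 = 1
    rw [pow_one, pow_two]
    have h3 : ∀ a ∈ Subgroup.closure (Set.range s), ∀ b ∈ Subgroup.closure (Set.range s), a * b = b * a :=
      fun a ha b hb => Subgroup.closure_induction₂ (p := fun a b _ _ => a * b = b * a)
        (by rintro _ _ ⟨a, rfl⟩ ⟨b, rfl⟩; exact h1 a b) (fun _ _ => by rw [one_mul, mul_one])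
        (fun _ _ => by rw [one_mul, mul_one])
        (fun a b c _ _ _ h1 h2 => by rw [mul_assoc, h2, ← mul_assoc, h1, mul_assoc])
        (fun a b c _ _ _ h1 h2 => by rw [← mul_assoc, h1, mul_assoc, h2, mul_assoc])
        (fun a b _ _ h1 => (Commute.inv_left h1).eq) (fun a b _ _ h1 => (Commute.inv_right h1).eq) ha hb
    induction hx using Subgroup.closure_induction with
    | mem x hx =>
      obtain ⟨a, rfl⟩ := hx
      exact Rf.sq (C.root a) (hs a)
    | one => exact one_mul 1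
    | mul x y hx hy h4 h5 => rw [mul_assoc, ← mul_assoc y, ← h3 x hx y hy, mul_assoc, h5, mul_one, h4]
    | inv x _ h4 => rw [← mul_inv_rev, h4, inv_one]
  obtain ⟨S, hS⟩ := h2.exists_le_sylow
  refine ⟨S, fun w hw a => ?_⟩
  by_contra h3
  push Not at h3
  obtain ⟨b, h4, h5⟩ := C.odd2 w a h3
  obtain ⟨k, hk⟩ := S.isPGroup' ⟨_, mul_mem ((Subgroup.mem_normalizer_iff.1 hw _).1
    (hS (Subgroup.subset_closure ⟨a, rfl⟩))) (hS (Subgroup.subset_closure ⟨b, rfl⟩))⟩
  exact not_two ((C.root a).act w) (C.root b) ((hs a).conj (C.root a) w) (hs b) h4 h5 k (congrArg Subtype.val hk)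

/-! ### the criterion -/

/-- the invariant form of a symmetriser -/
def Bf (A : I → I → ℤ) (e : I → ℤ) (x y : I → ℤ) : ℤ := ∑ i, e i * x i * pairing A i y

section crit

variable {e : I → ℤ} (he : ∀ i j, e i * A i j = e j * A j i)

include he

theorem Bf_comm (x y : I → ℤ) : Bf A e x y = Bf A e y x := by
  simp only [Bf, pairing, Finset.mul_sum]
  rw [Finset.sum_comm]
  refine Finset.sum_congr rfl fun i _ => Finset.sum_congr rfl fun j _ => ?_
  linear_combination (x j * y i) * he j i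

omit he in
theorem Bf_sr (i : I) (y : I → ℤ) : Bf A e (sr i) y = e i * pairing A i y := by
  rw [Bf, Finset.sum_eq_single i, sr_self, mul_one]
  · intro b _ hb
    rw [sr_ne hb, mul_zero, zero_mul]
  · exact fun h => absurd (Finset.mem_univ i) h

omit he in
theorem Bf_sub_smul (u v : I → ℤ) (m : ℤ) (y : I → ℤ) : Bf A e (u - m • v) y = Bf A e u y - m * Bf A e v y := by
  simp only [Bf, Finset.mul_sum, ← Finset.sum_sub_distrib]
  refine Finset.sum_congr rfl fun i _ => ?_
  rw [Pi.sub_apply, Pi.smul_apply, smul_eq_mul]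
  ring

theorem Bf_rep (w : W) (x y : I → ℤ) : Bf A e (rep cs h w x) (rep cs h w y) = Bf A e x y := by
  induction w using cs.simple_induction_left generalizing x y with
  | one => rw [map_one, Module.End.one_apply, Module.End.one_apply]
  | mul_simple_left w i ih =>
    rw [rep_mul_apply, rep_mul_apply, ← ih x y]
    generalize rep cs h w x = u
    generalize rep cs h w y = v
    have h1 : pairing A i (rep cs h (cs.simple i) v) = -pairing A i v := by
      rw [← cpr_sr cs h, rep_simple_eq, cpr_sub_smul _ _ _ (isRoot_sr cs h i), cpr_self cs h (isRoot_sr cs h i), cpr_sr]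
      ring
    rw [rep_simple_eq cs h i u, Bf_sub_smul, Bf_sr, h1, Bf_comm he u, rep_simple_eq, Bf_sub_smul, Bf_sr, Bf_comm he v]
    ring

theorem cpr_eq (x : I → ℤ) {y : I → ℤ} (hy : IsRoot cs h y) : cpr cs h x y * Bf A e y y = 2 * Bf A e y x := by
  obtain ⟨w, i, rfl⟩ := hy
  rw [Bf_rep he, cpr_rep_sr, ← Bf_rep (cs := cs) (h := h) he w⁻¹ _ x, rep_inv_apply, Bf_sr, Bf_sr, ← cpr_sr cs h (sr i),
    cpr_self cs h (isRoot_sr cs h i)]
  ring

/-- **the criterion** -/
theorem cmb_of (hr : ∀ a, IsRoot cs h (β a)) {m : ℤ} (hm : m ≠ 0) {u : ι → ℤ} (hu : ∀ a, Odd (u a))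
    (hN : ∀ a, Bf A e (β a) (β a) = m * u a) {cv : ι → I → ℤ}
    (hcv : ∀ a j, cv a j * (m * u a) = 2 * (e j * pairing A j (β a)))
    (h0 : ∀ a b, a ≠ b → ∑ j, cv b j * β a j = 0)
    (h1 : ∀ x, IsRoot cs h x → Out β x → ∃ a, Odd (∑ j, cv a j * x j)) : Cmb cs h β := by
  have h2 : ∀ a x, cpr cs h x (β a) = ∑ j, cv a j * x j := fun a x => by
    have h3 := cpr_eq he x (hr a)
    rw [hN, Bf_comm he, Bf, Finset.mul_sum] at h3
    refine mul_right_cancel₀ (mul_ne_zero hm fun h4 : u a = 0 => by simpa [h4] using hu a) (h3.trans ?_)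
    rw [Finset.sum_mul]
    exact Finset.sum_congr rfl fun j _ => by linear_combination (-x j) * hcv a j
  refine ⟨hr, fun a b hab => by rw [h2, h0 a b hab], fun w b ho => ?_⟩
  obtain ⟨a, ha⟩ := h1 _ ((hr b).act w) ho
  rw [← h2] at ha
  refine ⟨a, ha, ?_⟩
  have h4 := cpr_eq he (rep cs h w (β b)) (hr a)
  have h5 := cpr_eq he (β a) ((hr b).act w)
  rw [Bf_rep he, hN, Bf_comm he, ← h4, hN] at h5
  have h6 : cpr cs h (β a) (rep cs h w (β b)) * u b = cpr cs h (rep cs h w (β b)) (β a) * u a :=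
    mul_left_cancel₀ hm (by linear_combination h5)
  exact (Int.odd_mul.1 (h6 ▸ ha.mul (hu a))).1

end crit

end Cfsg.Agent.MK.GX
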